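import Cfsg.Prelude.Def_SubgroupEmbedding
import Cfsg.Prelude.Def_Local
import Cfsg.Agent.S3020
import Cfsg.Agent.Solvable.Basics
import Cfsg.Agent.LocalB.Embedded
import Mathlib.Data.Nat.ChineseRemainder

/-!
# Extremely closed abelian p-subgroups: the groups generated by two conjugates
-/

set_option autoImplicit false
set_option linter.unusedSectionVars false

namespace CfsgLib.ExtClosed

open Subgroup CfsgLib.LocalB

universe u

variable {G : Type u} [Group G]

/-- The subgroup generated by `H` and its conjugate by `g`. -/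
def pair (H : Subgroup G) (g : G) : Subgroup G := H ⊔ H.map (MulAut.conj g).toMonoidHom

/-- The core of order prime to `p` of the subgroup generated by `H` and a conjugate. -/
def core (p : ℕ) (H : Subgroup G) (g : G) : Subgroup G :=
  (Cfsg.pPrimeCore p ↥(pair H g)).map (pair H g).subtype

/-- An abelian `p`-subgroup which is extremely closed. -/
structure Setup (p : ℕ) (H : Subgroup G) : Prop where
  pg : IsPGroup p H
  comm : ∀ a ∈ H, ∀ b ∈ H, a * b = b * a
  ec : Cfsg.IsExtremelyClosed H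

section Aux

variable [Finite G] {p : ℕ} [hp : Fact p.Prime]

theorem coprime_of_le {A B : Subgroup G} (h : A ≤ B) (hB : (Nat.card B).Coprime p) :
    (Nat.card A).Coprime p :=
  hB.coprime_dvd_left (card_dvd_of_le h)

theorem disjoint_of_coprime {A R : Subgroup G} (hA : IsPGroup p A) (hR : (Nat.card R).Coprime p) :
    A ⊓ R = ⊥ := by
  obtain ⟨k, hk⟩ := IsPGroup.iff_card.1 hA
  exact (Subgroup.disjoint_of_coprime_natCard (hk ▸ (hR.pow_right k).symm)).eq_bot

theorem pow_mem_coset {R : Subgroup G} {w o : G} (hw : w ∈ normalizer (R : Set G)) (ho : o ∈ R) :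
    ∀ e : ℕ, ∃ o' ∈ R, (w * o) ^ e = w ^ e * o'
  | 0 => ⟨1, one_mem R, by simp⟩
  | e + 1 => by
    obtain ⟨o', ho', he⟩ := pow_mem_coset hw ho e
    refine ⟨w⁻¹ * o' * w * o, mul_mem ?_ ho, ?_⟩
    · have := (mem_normalizer_iff.1 (inv_mem hw) o').1 ho'
      simpa using this
    · rw [pow_succ, he, pow_succ]; group

/-- A `p`-subgroup of the product of a `p`-group with a normalized subgroup of order prime to `p`
having the same order as the first factor is conjugate to it by the second one. -/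
theorem conj_complement {A A' R : Subgroup G} (hA : IsPGroup p A) (hAR : A ≤ normalizer (R : Set G))
    (hR : (Nat.card R).Coprime p) (hle : A' ≤ A ⊔ R) (hcard : Nat.card A' = Nat.card A) :
    ∃ r ∈ R, ∀ x ∈ A', r * x * r⁻¹ ∈ A := by
  have hcX := CfsgLib.Solvable.card_sup_of_disjoint hAR (disjoint_of_coprime hA hR)
  obtain ⟨k, hk⟩ := IsPGroup.iff_card.1 hA
  have hA'p : IsPGroup p A' := IsPGroup.of_card (hcard.trans hk)
  have hidx : ¬ p ∣ (A.subgroupOf (A ⊔ R)).index := by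
    have h1 : A.relIndex (A ⊔ R) = Nat.card R := by
      have h2 := relIndex_mul_relIndex ⊥ A (A ⊔ R) bot_le le_sup_left
      rw [relIndex_bot_left, relIndex_bot_left, hcX] at h2
      exact Nat.eq_of_mul_eq_mul_left Nat.card_pos h2
    show ¬ p ∣ A.relIndex (A ⊔ R)
    rw [h1]
    exact (Nat.Prime.coprime_iff_not_dvd hp.out).1 hR.symm
  let P : Sylow p ↥(A ⊔ R) := IsPGroup.toSylow (IsPGroup.comap_subtype hA : IsPGroup p (A.subgroupOf (A ⊔ R))) hidx
  obtain ⟨Q, hQ⟩ := (IsPGroup.comap_subtype hA'p : IsPGroup p (A'.subgroupOf (A ⊔ R))).exists_le_sylow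
  obtain ⟨x, hx⟩ := MulAction.exists_smul_eq ↥(A ⊔ R) Q P
  obtain ⟨a, ha, r, hr, hxe⟩ := (CfsgLib.Solvable.mem_sup_of_le_normalizer hAR).1 x.2
  refine ⟨r, hr, fun y hy => ?_⟩
  have h2 : x * ⟨y, hle hy⟩ * x⁻¹ ∈ (P : Subgroup ↥(A ⊔ R)) := by
    rw [← hx, Sylow.coe_subgroup_smul]
    exact ⟨⟨y, hle hy⟩, hQ hy, rfl⟩
  have h3 : (x : G) * y * (x : G)⁻¹ ∈ A := h2
  rw [← hxe] at h3
  have h4 := mul_mem (mul_mem (inv_mem ha) h3) ha
  rwa [show a⁻¹ * (a * r * y * (a * r)⁻¹) * a = r * y * r⁻¹ by group] at h4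

end Aux

section Core

variable [Finite G] {p : ℕ} [hp : Fact p.Prime] {H : Subgroup G}

theorem le_pair (g : G) : H ≤ pair H g := le_sup_left

theorem conj_mem_pair {k : G} (hk : k ∈ H) (g : G) : g * k * g⁻¹ ∈ pair H g :=
  (le_sup_right : _ ≤ pair H g) ⟨k, hk, rfl⟩

theorem pair_mul_normalizer {g m : G} (hm : m ∈ normalizer (H : Set G)) :
    pair H (g * m) = pair H g := by
  unfold pair
  rw [← map_conj_map_conj H m g, map_conj_eq_of_mem_normalizer hm]

theorem core_le (g : G) : core p H g ≤ pair H g := map_subtype_le _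

theorem card_core_coprime (g : G) : (Nat.card (core p H g)).Coprime p := by
  rw [core, card_map_of_injective (pair H g).subtype_injective]
  exact CfsgLib.Solvable.coprime_card_pPrimeCore p

theorem core_conj {g t o : G} (ht : t ∈ pair H g) (ho : o ∈ core p H g) :
    t * o * t⁻¹ ∈ core p H g := by
  obtain ⟨o', ho', rfl⟩ := ho
  have := CfsgLib.Solvable.pPrimeCore_normal (G := ↥(pair H g)) p
  exact ⟨⟨t, ht⟩ * o' * ⟨t, ht⟩⁻¹, Subgroup.Normal.conj_mem inferInstance o' ho' _, rfl⟩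

theorem pair_le_normalizer (g : G) : pair H g ≤ normalizer (core p H g : Set G) := fun _ ht =>
  mem_normalizer_of_conj_le fun _ ho => core_conj ht ho

theorem core_mul_normalizer {g m : G} (hm : m ∈ normalizer (H : Set G)) :
    core p H (g * m) = core p H g := by
  unfold core
  rw [pair_mul_normalizer hm]

theorem Setup.isComm (hS : Setup p H) : IsMulCommutative H :=
  ⟨⟨fun a b => Subtype.ext (hS.comm a a.2 b b.2)⟩⟩

theorem Setup.sup_core (hS : Setup p H) (g : G) : H ⊔ core p H g = pair H g :=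
  (Cfsg.Agent.S3020.result H hS.pg hS.isComm hS.ec g (pair H g) rfl).1

theorem Setup.inf_core (hS : Setup p H) (g : G) : H ⊓ core p H g = ⊥ :=
  (Cfsg.Agent.S3020.result H hS.pg hS.isComm hS.ec g (pair H g) rfl).2

theorem Setup.eq_one_of_mem (hS : Setup p H) {g x : G} (hx : x ∈ H) (hxc : x ∈ core p H g) :
    x = 1 := by
  rw [← mem_bot, ← hS.inf_core g]
  exact ⟨hx, hxc⟩

theorem Setup.decompose (hS : Setup p H) {g t : G} (ht : t ∈ pair H g) :
    ∃ x ∈ H, ∃ o ∈ core p H g, x * o = t := by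
  rw [← hS.sup_core g] at ht
  exact (CfsgLib.Solvable.mem_sup_of_le_normalizer
    ((le_pair g).trans (pair_le_normalizer g))).1 ht

theorem Setup.mem_of_normalizes (hS : Setup p H) {g t : G} (ht : t ∈ pair H g)
    (htn : t ∈ normalizer (H : Set G)) : t ∈ H := by
  have h : t ∈ pair H g ⊓ normalizer (H : Set G) := ⟨ht, htn⟩
  unfold pair at h
  rwa [hS.ec g] at h

theorem Setup.proj_unique (hS : Setup p H) {g y x x' : G} (hx : x ∈ H) (hx' : x' ∈ H)
    (h : x⁻¹ * y ∈ core p H g) (h' : x'⁻¹ * y ∈ core p H g) : x = x' := by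
  have hc : x⁻¹ * x' ∈ core p H g := by
    have := mul_mem h (inv_mem h')
    rwa [mul_inv_rev, inv_inv, ← mul_assoc, mul_assoc x⁻¹ y, mul_inv_cancel, mul_one] at this
  exact inv_mul_eq_one.1 (hS.eq_one_of_mem (mul_mem (inv_mem hx) hx') hc)

theorem Setup.mem_core_of_coprime (hS : Setup p H) {g t : G} (ht : t ∈ pair H g)
    (hord : ¬ p ∣ orderOf t) : t ∈ core p H g := by
  obtain ⟨x, hx, o, ho, rfl⟩ := hS.decompose ht
  obtain ⟨o', ho', he⟩ := pow_mem_coset (pair_le_normalizer g (le_pair g hx)) ho (orderOf (x * o))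
  rw [pow_orderOf_eq_one] at he
  have h1 : x ^ orderOf (x * o) = 1 := hS.eq_one_of_mem (g := g) (pow_mem hx _) (by
    rw [eq_mul_inv_of_mul_eq he.symm, one_mul]; exact inv_mem ho')
  obtain ⟨k, hk⟩ := IsPGroup.iff_orderOf.1 hS.pg ⟨x, hx⟩
  rw [Subgroup.orderOf_mk] at hk
  have hx1 : x = 1 := orderOf_eq_one_iff.1 (Nat.eq_one_of_dvd_coprimes
    (((Nat.Prime.coprime_iff_not_dvd hp.out).2 hord).pow_left k) (hk ▸ dvd_refl (orderOf x))
    (orderOf_dvd_of_pow_eq_one h1))
  rw [hx1, one_mul]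
  exact ho

/-- The element of the normalizer belonging to a conjugate. -/
theorem Setup.exists_mon (hS : Setup p H) (g : G) :
    ∃ o ∈ core p H g, o * g ∈ normalizer (H : Set G) ∧
      ∀ k ∈ H, (o * g * k * (o * g)⁻¹)⁻¹ * (g * k * g⁻¹) ∈ core p H g := by
  obtain ⟨o, ho, hoc⟩ := conj_complement (A := H) (A' := H.map (MulAut.conj g).toMonoidHom)
    (R := core p H g) hS.pg ((le_pair g).trans (pair_le_normalizer g)) (card_core_coprime g)
    (by rw [hS.sup_core g]; exact le_sup_right) (card_map_conj H g)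
  refine ⟨o, ho, mem_normalizer_of_conj_le fun k hk => ?_, fun k hk => ?_⟩
  · have := hoc _ ⟨k, hk, rfl⟩
    simpa [mul_assoc] using this
  · have h1 := core_conj (p := p) (inv_mem (conj_mem_pair (H := H) hk g)) (inv_mem ho)
    rw [show (o * g * k * (o * g)⁻¹)⁻¹ * (g * k * g⁻¹) =
      o * ((g * k * g⁻¹)⁻¹ * o⁻¹ * ((g * k * g⁻¹)⁻¹)⁻¹) by group]
    exact mul_mem ho h1

/-- Conjugate elements of `H` are conjugate in its normalizer. -/
theorem Setup.exists_conj_normalizer (hS : Setup p H) {w w' g : G} (hw : w ∈ H) (hw' : w' ∈ H)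
    (h : g * w * g⁻¹ = w') : ∃ n ∈ normalizer (H : Set G), n * w * n⁻¹ = w' := by
  obtain ⟨o, ho, hn, -⟩ := hS.exists_mon g
  refine ⟨o * g, hn, ?_⟩
  have hle : pair H g ≤ centralizer ({w'} : Set G) := by
    refine sup_le (fun x hx => mem_centralizer_singleton_iff.2 (hS.comm x hx w' hw')) ?_
    rintro _ ⟨x, hx, rfl⟩
    rw [mem_centralizer_singleton_iff, ← h]
    show g * x * g⁻¹ * (g * w * g⁻¹) = g * w * g⁻¹ * (g * x * g⁻¹)
    calc g * x * g⁻¹ * (g * w * g⁻¹) = g * (x * w) * g⁻¹ := by group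
      _ = g * (w * x) * g⁻¹ := by rw [hS.comm x hx w hw]
      _ = g * w * g⁻¹ * (g * x * g⁻¹) := by group
  have hc := mem_centralizer_singleton_iff.1 (hle (core_le g ho))
  calc o * g * w * (o * g)⁻¹ = o * (g * w * g⁻¹) * o⁻¹ := by group
    _ = w' * o * o⁻¹ := by rw [h, hc]
    _ = w' := by group

/-- Every element of a nontrivial coset of the core is conjugate to the product of its element of
`H` with a commuting element of the core. -/
theorem Setup.exists_conj_fix (hS : Setup p H) {g w o : G} (hw : w ∈ H) (ho : o ∈ core p H g) :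
    ∃ r ∈ core p H g, ∃ v ∈ core p H g, w * v = v * w ∧ r * (w * o) * r⁻¹ = w * v := by
  set R := core p H g with hR
  have hwn : w ∈ normalizer (R : Set G) := pair_le_normalizer g (le_pair g hw)
  have hwp : IsPGroup p (zpowers w) := hS.pg.to_le (zpowers_le.2 hw)
  obtain ⟨k, hk⟩ := IsPGroup.iff_card.1 hwp
  rw [Nat.card_zpowers] at hk
  have hcop : (p ^ k).Coprime (Nat.card R) := ((card_core_coprime g).pow_right k).symm
  obtain ⟨e, he1, he0⟩ := Nat.chineseRemainder hcop 1 0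
  set t := w * o with ht
  obtain ⟨o1, ho1, ht1⟩ := pow_mem_coset hwn ho e
  have hwe : w ^ e = w := by
    conv_rhs => rw [← pow_one w]
    exact pow_eq_pow_iff_modEq.2 (by rw [hk]; exact he1)
  rw [hwe] at ht1
  obtain ⟨o2, ho2, ht2⟩ := pow_mem_coset hwn ho (p ^ k)
  rw [show w ^ p ^ k = 1 by rw [← hk, pow_orderOf_eq_one], one_mul] at ht2
  have hteq : (t ^ e) ^ p ^ k = 1 := by
    obtain ⟨c, hc⟩ := Nat.modEq_zero_iff_dvd.1 he0
    rw [← pow_mul, mul_comm, pow_mul, ht2, hc, pow_mul]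
    rw [show o2 ^ Nat.card R = 1 from
      congrArg Subtype.val (pow_card_eq_one' (x := (⟨o2, ho2⟩ : R))), one_pow]
  have hord : orderOf (t ^ e) = p ^ k := by
    refine Nat.dvd_antisymm (orderOf_dvd_of_pow_eq_one hteq) ?_
    obtain ⟨o3, ho3, ht3⟩ := pow_mem_coset hwn ho1 (orderOf (t ^ e))
    rw [← ht1, pow_orderOf_eq_one] at ht3
    rw [← hk]
    refine orderOf_dvd_of_pow_eq_one (hS.eq_one_of_mem (g := g) (pow_mem hw _) ?_)
    rw [eq_mul_inv_of_mul_eq ht3.symm, one_mul]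
    exact inv_mem ho3
  have hAR : zpowers w ≤ normalizer (R : Set G) := zpowers_le.2 hwn
  obtain ⟨r, hr, hrc⟩ := conj_complement (A := zpowers w) (A' := zpowers (t ^ e)) hwp hAR
    (card_core_coprime g) (zpowers_le.2 (by
      rw [ht1]; exact mul_mem (mem_sup_left (mem_zpowers w)) (mem_sup_right ho1)))
    (by rw [Nat.card_zpowers, Nat.card_zpowers, hord, hk])
  have h1 : r * (t ^ e) * r⁻¹ = w := by
    have h2 := zpowers_le.2 hw (hrc _ (mem_zpowers _))
    refine hS.proj_unique (g := g) (y := r * (t ^ e) * r⁻¹) h2 hw (by rw [inv_mul_cancel]; exact one_mem _) ?_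
    rw [ht1, show w⁻¹ * (r * (w * o1) * r⁻¹) = (w⁻¹ * r * w) * o1 * r⁻¹ by group]
    refine mul_mem (mul_mem ?_ ho1) (inv_mem hr)
    have := (mem_normalizer_iff.1 (inv_mem hwn) r).1 hr
    simpa using this
  have hcomm : w * (r * t * r⁻¹) = r * t * r⁻¹ * w := by
    calc w * (r * t * r⁻¹) = r * t ^ e * r⁻¹ * (r * t * r⁻¹) := by rw [h1]
      _ = r * (t ^ e * t) * r⁻¹ := by group
      _ = r * (t * t ^ e) * r⁻¹ := by rw [(Commute.pow_self t e).eq]
      _ = r * t * r⁻¹ * (r * t ^ e * r⁻¹) := by group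
      _ = r * t * r⁻¹ * w := by rw [h1]
  refine ⟨r, hr, w⁻¹ * (r * t * r⁻¹), ?_, ?_, by group⟩
  · rw [ht, show w⁻¹ * (r * (w * o) * r⁻¹) = (w⁻¹ * r * w) * o * r⁻¹ by group]
    refine mul_mem (mul_mem ?_ ho) (inv_mem hr)
    have := (mem_normalizer_iff.1 (inv_mem hwn) r).1 hr
    simpa using this
  · calc w * (w⁻¹ * (r * t * r⁻¹)) = w⁻¹ * (w * (r * t * r⁻¹)) := by group
      _ = w⁻¹ * (r * t * r⁻¹ * w) := by rw [hcomm]
      _ = w⁻¹ * (r * t * r⁻¹) * w := by group

/-- An element of the core lies in every subgroup of order prime to `p` which it fixes `H` modulo. -/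
theorem Setup.mem_of_fixes_mod (hS : Setup p H) {g v : G} {Q : Subgroup G}
    (hHQ : H ≤ normalizer (Q : Set G)) (hQ : (Nat.card Q).Coprime p) (hv : v ∈ core p H g)
    (hconj : ∀ h ∈ H, ∃ h' ∈ H, h'⁻¹ * (v * h * v⁻¹) ∈ Q) : v ∈ Q := by
  set R := Q ⊓ core p H g with hR
  have hHR : H ≤ normalizer (R : Set G) := fun h hh => mem_normalizer_of_conj_le fun x hx =>
    ⟨(mem_normalizer_iff.1 (hHQ hh) x).1 hx.1, core_conj (le_pair g hh) hx.2⟩
  have hle : H.map (MulAut.conj v).toMonoidHom ≤ H ⊔ R := by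
    rintro _ ⟨h, hh, rfl⟩
    obtain ⟨h', hh', hq⟩ := hconj h hh
    have hqc : h'⁻¹ * (v * h * v⁻¹) ∈ core p H g := by
      refine hS.mem_core_of_coprime (mul_mem (inv_mem (le_pair g hh'))
        (mul_mem (mul_mem (core_le g hv) (le_pair g hh)) (inv_mem (core_le g hv)))) fun hd => ?_
      exact (Nat.Prime.coprime_iff_not_dvd hp.out).1 hQ.symm
        (hd.trans (Subgroup.orderOf_dvd_natCard Q hq))
    have := mul_mem (mem_sup_left hh' : h' ∈ H ⊔ R) (mem_sup_right ⟨hq, hqc⟩)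
    rwa [mul_inv_cancel_left] at this
  obtain ⟨r, hr, hrc⟩ := conj_complement hS.pg hHR (coprime_of_le inf_le_left hQ) hle
    (card_map_conj H v)
  have hn : r * v ∈ normalizer (H : Set G) := mem_normalizer_of_conj_le fun x hx => by
    have := hrc _ ⟨x, hx, rfl⟩
    simpa [mul_assoc] using this
  have h1 : r * v = 1 := hS.eq_one_of_mem
    (hS.mem_of_normalizes (core_le g (mul_mem hr.2 hv)) hn) (mul_mem hr.2 hv)
  rw [show v = r⁻¹ from eq_inv_of_mul_eq_one_right h1]
  exact inv_mem hr.1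

/-- An abelian extremely closed subgroup stays so in a subgroup containing it. -/
theorem Setup.subgroupOf (hS : Setup p H) {K : Subgroup G} (hHK : H ≤ K) :
    Setup p (H.subgroupOf K) := by
  refine ⟨IsPGroup.comap_subtype hS.pg, fun a ha b hb => Subtype.ext (hS.comm a ha b hb),
    fun c => le_antisymm ?_ ?_⟩
  · rintro x ⟨hx, hxn⟩
    have h1 : (x : G) ∈ pair H (c : G) := by
      have hle : H.subgroupOf K ⊔ (H.subgroupOf K).map (MulAut.conj c).toMonoidHom ≤
          (pair H (c : G)).subgroupOf K := by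
        refine sup_le (fun y hy => le_pair (c : G) hy) ?_
        rintro _ ⟨y, hy, rfl⟩
        exact conj_mem_pair (H := H) hy (c : G)
      exact hle hx
    refine hS.mem_of_normalizes h1 (mem_normalizer_of_conj_le fun z hz => ?_)
    exact (mem_normalizer_iff.1 hxn ⟨z, hHK hz⟩).1 hz
  · exact le_inf le_sup_left Subgroup.le_normalizer

/-- An abelian extremely closed subgroup stays so modulo a central subgroup inside it. -/
theorem Setup.map_mk (hS : Setup p H) {Z : Subgroup G} [Z.Normal] (hZH : Z ≤ H) :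
    Setup p (H.map (QuotientGroup.mk' Z)) := by
  refine ⟨hS.pg.map _, ?_, fun gb => le_antisymm ?_ ?_⟩
  · rintro _ ⟨a, ha, rfl⟩ _ ⟨b, hb, rfl⟩
    rw [← map_mul, ← map_mul, hS.comm a ha b hb]
  · obtain ⟨g, rfl⟩ := QuotientGroup.mk'_surjective Z gb
    rintro xb ⟨hx, hxn⟩
    have hle : H.map (QuotientGroup.mk' Z) ⊔
        (H.map (QuotientGroup.mk' Z)).map (MulAut.conj (QuotientGroup.mk' Z g)).toMonoidHom ≤
        (pair H g).map (QuotientGroup.mk' Z) := by
      refine sup_le (map_mono (le_pair g)) ?_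
      rintro _ ⟨_, ⟨a, ha, rfl⟩, rfl⟩
      exact ⟨g * a * g⁻¹, conj_mem_pair ha g, by simp⟩
    obtain ⟨x, hxp, rfl⟩ := hle hx
    refine ⟨x, hS.mem_of_normalizes hxp (mem_normalizer_of_conj_le fun z hz => ?_), rfl⟩
    have h2 : QuotientGroup.mk' Z (x * z * x⁻¹) ∈ H.map (QuotientGroup.mk' Z) := by
      rw [map_mul, map_mul, map_inv]
      exact (mem_normalizer_iff.1 hxn _).1 ⟨z, hz, rfl⟩
    obtain ⟨y, hy, hye⟩ := h2
    obtain ⟨c, hc, hce⟩ := (QuotientGroup.mk'_eq_mk' Z).1 hye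
    rw [← hce]
    exact mul_mem hy (hZH hc)
  · exact le_inf le_sup_left Subgroup.le_normalizer

end Core

end CfsgLib.ExtClosed
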