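import Cfsg.Agent.ExtClosed.Basic
import Cfsg.Agent.Blocks.LocalPrincipal
import Cfsg.Agent.Char.CyclicW
import Cfsg.Agent.Char.CosetSquare

/-!
# A bound on the restriction of a character constant on the sections of an extremely closed subgroup
-/

set_option autoImplicit false
set_option linter.unusedSectionVars false

namespace CfsgLib.ExtClosed

open Subgroup Finset CfsgLib.Block.Chr CfsgLib.Char
open scoped ComplexConjugate

universe u

variable {G : Type u} [Group G] [Fintype G]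

/-- An irreducible character gives a positive semidefinite form. -/
theorem gram_nonneg {ι : Type*} [Fintype ι] (χ : Cfsg.IrrCharacter G) (c : ι → ℂ) (x : ι → G) :
    ∃ r : ℝ, 0 ≤ r ∧ ∑ i, ∑ j, c i * conj (c j) * (χ : G → ℂ) ((x j)⁻¹ * x i) = (r : ℂ) := by
  classical
  have hG : (Nat.card G : ℂ) ≠ 0 := by exact_mod_cast Nat.card_pos.ne'
  have hd := irr_one_ne_zero χ
  have hkey : ∀ z : G, (∑ g : G, (χ : G → ℂ) g⁻¹ * (χ : G → ℂ) (g * z)) * (χ : G → ℂ) 1 =
      (Nat.card G : ℂ) * (χ : G → ℂ) z := fun z => by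
    have h := class_mul χ (a := fun g => (χ : G → ℂ) g⁻¹)
      (fun g v => by
        show (χ : G → ℂ) (v * g * v⁻¹)⁻¹ = (χ : G → ℂ) g⁻¹
        rw [show (v * g * v⁻¹)⁻¹ = v * g⁻¹ * v⁻¹ by group]
        exact isClassFunction_irr χ g⁻¹ v) (fun k => if k = z then (1 : ℂ) else 0)
    simp only [mul_ite, ite_mul, mul_one, one_mul, mul_zero, zero_mul, Finset.sum_ite_eq',
      Finset.mem_univ, if_true] at h
    rw [h]
    congr 1
    have h2 := sum_norm_sq_eq χ.2
    rw [show (Nat.card G : ℂ) = ((Nat.card G : ℝ) : ℂ) by simp, ← h2, Complex.ofReal_sum]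
    refine Finset.sum_congr rfl fun g _ => ?_
    rw [← conj_irr, mul_comm, Complex.mul_conj', Complex.ofReal_pow]
  refine ⟨((χ : G → ℂ) 1).re / Nat.card G * ∑ u : G, ‖∑ i, c i * (χ : G → ℂ) (u * x i)‖ ^ 2,
    mul_nonneg (div_nonneg ?_ (Nat.cast_nonneg _)) (Finset.sum_nonneg fun u _ => sq_nonneg _), ?_⟩
  · rw [(irr_one χ).1]; simp
  have hre : (((χ : G → ℂ) 1).re : ℂ) = (χ : G → ℂ) 1 := by rw [(irr_one χ).1]; simp
  rw [Complex.ofReal_mul, Complex.ofReal_div, hre, Complex.ofReal_natCast, Complex.ofReal_sum]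
  have h3 : ∀ u : G, ((‖∑ i, c i * (χ : G → ℂ) (u * x i)‖ ^ 2 : ℝ) : ℂ) =
      ∑ i, ∑ j, c i * conj (c j) * ((χ : G → ℂ) (u * x i) * (χ : G → ℂ) (u * x j)⁻¹) := fun u => by
    rw [Complex.ofReal_pow, ← Complex.mul_conj', map_sum, Finset.sum_mul_sum]
    refine Finset.sum_congr rfl fun i _ => Finset.sum_congr rfl fun j _ => ?_
    rw [map_mul, conj_irr]; ring
  simp only [h3]
  rw [Finset.sum_comm (γ := G), Finset.mul_sum]
  refine Finset.sum_congr rfl fun i _ => ?_
  rw [Finset.sum_comm (γ := G), Finset.mul_sum]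
  refine Finset.sum_congr rfl fun j _ => ?_
  rw [← Finset.mul_sum]
  have h4 : ∑ u : G, (χ : G → ℂ) (u * x i) * (χ : G → ℂ) (u * x j)⁻¹ =
      ∑ g : G, (χ : G → ℂ) g⁻¹ * (χ : G → ℂ) (g * ((x j)⁻¹ * x i)) :=
    Fintype.sum_equiv (Equiv.mulRight (x j)) _ _ fun u => by
      simp only [Equiv.coe_mulRight]
      rw [mul_comm]
      congr 2; group
  rw [h4]
  have h5 := hkey ((x j)⁻¹ * x i)
  field_simp
  linear_combination (-(c i * conj (c j))) * h5

/-- The average of the values of an irreducible character on the products with conjugates. -/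
theorem sum_conj_mul (χ : Cfsg.IrrCharacter G) (h k : G) :
    (∑ g : G, (χ : G → ℂ) (h * (g * k * g⁻¹))) * (χ : G → ℂ) 1 =
      (Nat.card G : ℂ) * ((χ : G → ℂ) h * (χ : G → ℂ) k) := by
  classical
  have hcl : Cfsg.IsClassFunction G fun y => ∑ g : G, if g * k * g⁻¹ = y then (1 : ℂ) else 0 :=
    fun y v => Fintype.sum_equiv (Equiv.mulLeft v⁻¹) _ _ fun g => by
      have e : v⁻¹ * g * k * (v⁻¹ * g)⁻¹ = y ↔ g * k * g⁻¹ = v * y * v⁻¹ := by
        constructor <;> intro he
        · rw [← he]; group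
        · rw [show v⁻¹ * g * k * (v⁻¹ * g)⁻¹ = v⁻¹ * (g * k * g⁻¹) * v by group, he]; group
      simp only [Equiv.coe_mulLeft, e]
  have hmul := class_mul χ hcl fun y => if y = h then (1 : ℂ) else 0
  simp only [mul_ite, ite_mul, mul_one, one_mul, mul_zero, zero_mul, Finset.sum_ite_eq',
    Finset.mem_univ, if_true] at hmul
  have h1 : ∀ f : G → ℂ, ∑ y : G, (∑ g : G, if g * k * g⁻¹ = y then (1 : ℂ) else 0) * f y =
      ∑ g : G, f (g * k * g⁻¹) := fun f => by
    simp only [Finset.sum_mul, ite_mul, one_mul, zero_mul]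
    rw [Finset.sum_comm]
    simp
  rw [h1 (fun y => (χ : G → ℂ) (y * h)), h1] at hmul
  simp only [fun g => isClassFunction_irr χ k g] at hmul
  rw [Finset.sum_const, Finset.card_univ, nsmul_eq_mul, ← Nat.card_eq_fintype_card] at hmul
  simp only [classFun_mul_comm (isClassFunction_irr χ) h]
  linear_combination hmul

variable {p : ℕ} [hp : Fact p.Prime] {H : Subgroup G}

/-- The character `χ` takes equal values on every nontrivial coset of a core. -/
def Const (p : ℕ) (H : Subgroup G) (χ : Cfsg.IrrCharacter G) : Prop :=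
  ∀ w ∈ H, w ≠ 1 → ∀ g : G, ∀ o ∈ core p H g, (χ : G → ℂ) (w * o) = (χ : G → ℂ) w

/-- Conjugation of `H` by an element of its normalizer. -/
def cj (m : normalizer (H : Set G)) : H →* H where
  toFun h := ⟨m * h * (m : G)⁻¹, (mem_normalizer_iff.1 m.2 h).1 h.2⟩
  map_one' := Subtype.ext (by simp)
  map_mul' a b := Subtype.ext (by push_cast; group)

@[simp] theorem coe_cj (m : normalizer (H : Set G)) (h : H) :
    ((cj m h : H) : G) = m * h * (m : G)⁻¹ := rfl

/-- The element of the normalizer attached to a conjugate of `H`. -/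
noncomputable def Setup.mon (hS : Setup p H) (g : G) : normalizer (H : Set G) :=
  ⟨(hS.exists_mon g).choose * g, (hS.exists_mon g).choose_spec.2.1⟩

theorem Setup.mon_spec (hS : Setup p H) (g : G) (k : H) :
    ((cj (hS.mon g) k : H) : G)⁻¹ * (g * k * g⁻¹) ∈ core p H g :=
  (hS.exists_mon g).choose_spec.2.2 k k.2

/-- The part of a conjugate lying in the core. -/
noncomputable def Setup.rest (hS : Setup p H) (g : G) (k : H) : G :=
  ((cj (hS.mon g) k : H) : G)⁻¹ * (g * k * g⁻¹)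

theorem Setup.mul_rest (hS : Setup p H) (g : G) (k : H) :
    ((cj (hS.mon g) k : H) : G) * hS.rest g k = g * k * g⁻¹ := mul_inv_cancel_left _ _

/-- The coefficient of a linear character of `H` in the restriction, times the order of `H`. -/
noncomputable def cf (H : Subgroup G) [Fintype H] (χ : G → ℂ) (lam : H →* ℂˣ) : ℂ :=
  ∑ h : H, (lam h⁻¹ : ℂ) * χ h

theorem conj_hom {A : Type*} [Group A] [Finite A] (lam : A →* ℂˣ) (h : A) :
    conj ((lam h : ℂˣ) : ℂ) = (lam h⁻¹ : ℂ) := by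
  obtain ⟨n, hn, he⟩ := (isOfFinOrder_of_finite h).exists_pow_eq_one
  have h1 : ((lam h : ℂˣ) : ℂ) ^ n = 1 := by
    rw [← Units.val_pow_eq_pow_val, ← map_pow, he, map_one, Units.val_one]
  rw [map_inv, Units.val_inv_eq_inv_val,
    Complex.inv_eq_conj (Complex.norm_eq_one_of_pow_eq_one h1 hn.ne')]

theorem norm_hom {A : Type*} [Group A] [Finite A] (lam : A →* ℂˣ) (h : A) :
    ‖((lam h : ℂˣ) : ℂ)‖ = 1 := by
  obtain ⟨n, hn, he⟩ := (isOfFinOrder_of_finite h).exists_pow_eq_one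
  exact Complex.norm_eq_one_of_pow_eq_one
    (by rw [← Units.val_pow_eq_pow_val, ← map_pow, he, map_one, Units.val_one]) hn.ne'

section Dual

variable [Fintype H] [Fintype (H →* ℂˣ)]

theorem Setup.card_dual (hS : Setup p H) : Fintype.card (H →* ℂˣ) = Nat.card H := by
  have hc : commutator H = ⊥ := by
    rw [commutator_eq_closure, Subgroup.closure_eq_bot_iff]
    rintro _ ⟨a, b, rfl⟩
    exact commutatorElement_eq_one_iff_mul_comm.2 (Subtype.ext (hS.comm a a.2 b b.2))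
  rw [← Nat.card_eq_fintype_card, card_hom_eq_index_commutator, hc, Subgroup.index_bot]

open Classical in
theorem Setup.sum_dual (hS : Setup p H) (x : H) :
    ∑ lam : H →* ℂˣ, ((lam x : ℂˣ) : ℂ) = if x = 1 then (Nat.card H : ℂ) else 0 := by
  have := sum_hom_conj_mul (fun a b : H => Subtype.ext (hS.comm a a.2 b b.2)) 1 x
  simpa [hS.card_dual, eq_comm] using this

theorem Setup.sum_cf (hS : Setup p H) (χ : G → ℂ) (h : H) :
    ∑ lam : H →* ℂˣ, (lam h : ℂ) * cf H χ lam = (Nat.card H : ℂ) * χ h := by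
  classical
  simp only [cf, Finset.mul_sum, ← mul_assoc, ← Units.val_mul, ← map_mul]
  rw [Finset.sum_comm]
  simp only [← Finset.sum_mul, hS.sum_dual, mul_inv_eq_one, ite_mul, zero_mul,
    Finset.sum_ite_eq, Finset.mem_univ, if_true]

theorem exists_cf_eq (χ : Cfsg.IrrCharacter G) (lam : H →* ℂˣ) :
    ∃ r : ℝ, 0 ≤ r ∧ cf H (χ : G → ℂ) lam = (r : ℂ) := by
  obtain ⟨r, hr, he⟩ := gram_nonneg χ (fun h : H => (lam h⁻¹ : ℂ)) (fun h : H => (h : G))
  refine ⟨r / Nat.card H, div_nonneg hr (Nat.cast_nonneg _), ?_⟩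
  rw [Complex.ofReal_div, Complex.ofReal_natCast,
    eq_div_iff (by exact_mod_cast Nat.card_pos.ne' : (Nat.card H : ℂ) ≠ 0), ← he, Finset.sum_comm,
    mul_comm, cf]
  rw [Nat.card_eq_fintype_card, ← nsmul_eq_mul, ← Finset.card_univ, ← Finset.sum_const]
  refine Finset.sum_congr rfl fun j _ => Fintype.sum_equiv (Equiv.mulLeft j) _ _ fun i => ?_
  simp only [Equiv.coe_mulLeft, conj_hom, inv_inv, Subgroup.coe_mul, inv_mul_cancel_left]
  rw [← Units.val_mul, ← map_mul, show (j * i)⁻¹ * j = i⁻¹ by group]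

/-- The twofold coefficient of a pair of linear characters along a conjugate. -/
noncomputable def cf2 (H : Subgroup G) [Fintype H] (χ : G → ℂ) (g : G) (lam mu : H →* ℂˣ) : ℂ :=
  ∑ h : H, ∑ k : H, (lam h⁻¹ : ℂ) * (mu k⁻¹ : ℂ) * χ (h * (g * k * g⁻¹))

theorem Setup.exists_cf2_eq (hS : Setup p H) (χ : Cfsg.IrrCharacter G) (g : G)
    (lam mu : H →* ℂˣ) : ∃ r : ℝ, 0 ≤ r ∧ cf2 H (χ : G → ℂ) g lam mu = (r : ℂ) := by
  obtain ⟨r, hr, he⟩ := gram_nonneg χ (fun i : H × H => (lam i.1⁻¹ : ℂ) * (mu i.2⁻¹ : ℂ))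
    (fun i : H × H => g * i.2 * g⁻¹ * i.1)
  refine ⟨r / (Nat.card H * Nat.card H : ℕ), div_nonneg hr (Nat.cast_nonneg _), ?_⟩
  rw [Complex.ofReal_div, Complex.ofReal_natCast,
    eq_div_iff (Nat.cast_ne_zero.2 (Nat.mul_ne_zero (Nat.card_pos (α := H)).ne'
      (Nat.card_pos (α := H)).ne')), ← he,
    Finset.sum_comm, mul_comm, cf2, ← Fintype.sum_prod_type', ← Nat.card_prod, Nat.card_eq_fintype_card,
    ← nsmul_eq_mul, ← Finset.card_univ, ← Finset.sum_const]
  refine Finset.sum_congr rfl fun (j : H × H) _ =>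
    Fintype.sum_equiv (Equiv.mulLeft j) _ _ fun i => ?_
  simp only [Equiv.coe_mulLeft]
  rw [map_mul (starRingEnd ℂ), conj_hom, conj_hom, inv_inv, inv_inv]
  simp only [Prod.fst_mul, Prod.snd_mul, map_mul,
    Subgroup.coe_mul, map_inv, Units.val_mul, Units.val_inv_eq_inv_val]
  rw [show (g * ((j.2 : G)) * g⁻¹ * j.1)⁻¹ * (g * (j.2 * i.2) * g⁻¹ * (j.1 * i.1)) =
      (j.1 : G)⁻¹ * (g * i.2 * g⁻¹ * j.1 * i.1) by group]
  rw [classFun_mul_comm (isClassFunction_irr χ) _ (g * i.2 * g⁻¹ * j.1 * i.1),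
    show g * (i.2 : G) * g⁻¹ * j.1 * i.1 * (j.1 : G)⁻¹ = g * i.2 * g⁻¹ * i.1 by
      rw [mul_assoc (g * (i.2 : G) * g⁻¹) _ _, hS.comm j.1 j.1.2 i.1 i.1.2]; group,
    classFun_mul_comm (isClassFunction_irr χ) (i.1 : G)]
  field_simp [Units.ne_zero]

theorem sum_cf2 (χ : Cfsg.IrrCharacter G) (lam mu : H →* ℂˣ) :
    (∑ g : G, cf2 H (χ : G → ℂ) g lam mu) * (χ : G → ℂ) 1 =
      (Nat.card G : ℂ) * (cf H (χ : G → ℂ) lam * cf H (χ : G → ℂ) mu) := by
  simp only [cf2]
  rw [Finset.sum_comm, Finset.sum_mul, cf, cf, Finset.sum_mul_sum, Finset.mul_sum]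
  refine Finset.sum_congr rfl fun h _ => ?_
  rw [Finset.sum_comm, Finset.sum_mul, Finset.mul_sum]
  refine Finset.sum_congr rfl fun k _ => ?_
  rw [← Finset.mul_sum, mul_assoc, sum_conj_mul]
  ring

/-- The coefficient along the conjugate, at the linear character carried over by it. -/
theorem Setup.cf2_twist (hS : Setup p H) {χ : Cfsg.IrrCharacter G} (hC : Const p H χ) (g : G)
    (lam : H →* ℂˣ) :
    cf2 H (χ : G → ℂ) g lam (lam.comp (cj (hS.mon g))) =
      (Nat.card H : ℂ) * cf H (χ : G → ℂ) lam +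
        (∑ k : H, (χ : G → ℂ) (hS.rest g k) - (Nat.card H : ℂ) * (χ : G → ℂ) 1) := by
  classical
  rw [cf2, Finset.sum_comm]
  have h1 : ∀ k : H, ∑ h : H, (lam h⁻¹ : ℂ) * (lam.comp (cj (hS.mon g)) k⁻¹ : ℂ) *
      (χ : G → ℂ) (h * (g * k * g⁻¹)) =
      cf H (χ : G → ℂ) lam + ((χ : G → ℂ) (hS.rest g k) - (χ : G → ℂ) 1) := by
    intro k
    have h2 : ∑ h : H, (lam h⁻¹ : ℂ) * (lam.comp (cj (hS.mon g)) k⁻¹ : ℂ) *
        (χ : G → ℂ) (h * (g * k * g⁻¹)) =
        ∑ w : H, (lam w⁻¹ : ℂ) * (χ : G → ℂ) (w * hS.rest g k) :=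
      Fintype.sum_equiv (Equiv.mulRight (cj (hS.mon g) k)) _ _ fun h => by
        simp only [Equiv.coe_mulRight, MonoidHom.comp_apply, mul_inv_rev, map_mul, map_inv,
          Units.val_mul, Subgroup.coe_mul]
        rw [mul_assoc (h : G), hS.mul_rest]
        ring
    rw [h2, cf, ← sub_eq_iff_eq_add', ← Finset.sum_sub_distrib,
      Finset.sum_eq_single (1 : H) (fun w _ hw => ?_) (by simp)]
    · simp
    · rw [hC w w.2 (fun h => hw (OneMemClass.coe_eq_one.1 h)) g (hS.rest g k) (hS.mon_spec g k),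
        sub_self]
  simp only [h1]
  rw [Finset.sum_add_distrib, Finset.sum_const, Finset.card_univ, Finset.sum_sub_distrib,
    Finset.sum_const, Finset.card_univ, nsmul_eq_mul, nsmul_eq_mul, ← Nat.card_eq_fintype_card]

/-- The trivial coefficient and the others, as real numbers. -/
noncomputable def acf (H : Subgroup G) [Fintype H] (χ : G → ℂ) (lam : H →* ℂˣ) : ℝ :=
  (cf H χ lam).re

theorem cf_eq_acf (χ : Cfsg.IrrCharacter G) (lam : H →* ℂˣ) :
    cf H (χ : G → ℂ) lam = (acf H (χ : G → ℂ) lam : ℂ) ∧ 0 ≤ acf H (χ : G → ℂ) lam := by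
  obtain ⟨r, hr, he⟩ := exists_cf_eq χ lam
  rw [acf, he, Complex.ofReal_re]
  exact ⟨rfl, hr⟩

/-- The orbit of a linear character of `H` under the normalizer. -/
noncomputable def orbit (H : Subgroup G) (lam : H →* ℂˣ) : Finset (H →* ℂˣ) :=
  letI : Fintype (normalizer (H : Set G)) := Fintype.ofFinite _
  letI : DecidableEq (H →* ℂˣ) := Classical.decEq _
  (univ : Finset (normalizer (H : Set G))).image fun m => lam.comp (cj m)

theorem mem_orbit {lam mu : H →* ℂˣ} :
    mu ∈ orbit H lam ↔ ∃ m : normalizer (H : Set G), lam.comp (cj m) = mu := by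
  simp [orbit]

theorem cf_comp_cj (χ : Cfsg.IrrCharacter G) (lam : H →* ℂˣ) (m : normalizer (H : Set G)) :
    cf H (χ : G → ℂ) (lam.comp (cj m)) = cf H (χ : G → ℂ) lam := by
  have hinj : Function.Injective (cj m) := fun a b h => by
    have h1 : (m : G) * a * (m : G)⁻¹ = m * b * (m : G)⁻¹ := congrArg Subtype.val h
    exact Subtype.ext (mul_left_cancel (mul_right_cancel h1))
  refine Fintype.sum_bijective (cj m) ⟨hinj, Finite.injective_iff_surjective.1 hinj⟩ _ _ fun h => ?_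
  rw [MonoidHom.comp_apply, map_inv (cj m), coe_cj, isClassFunction_irr χ (h : G) (m : G)]

variable {χ : Cfsg.IrrCharacter G}

theorem orbit_bound (hS : Setup p H) (hC : Const p H χ) (lam nu : H →* ℂˣ) :
    (Nat.card H : ℝ) * (acf H (χ : G → ℂ) lam - acf H (χ : G → ℂ) nu) * ((χ : G → ℂ) 1).re ≤
      (orbit H lam).card * acf H (χ : G → ℂ) lam ^ 2 := by
  classical
  have hd : (χ : G → ℂ) 1 = (((χ : G → ℂ) 1).re : ℂ) := by rw [(irr_one χ).1]; simp
  have hd0 : 0 ≤ ((χ : G → ℂ) 1).re := by rw [(irr_one χ).1]; simp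
  set d := ((χ : G → ℂ) 1).re
  choose S hS0 hSe using fun g mu => hS.exists_cf2_eq χ g lam mu
  have hsum : (∑ g : G, ∑ mu ∈ orbit H lam, S g mu) * d =
      (Nat.card G : ℝ) * ((orbit H lam).card * acf H (χ : G → ℂ) lam ^ 2) := by
    apply Complex.ofReal_injective
    push_cast
    simp only [← hSe, ← hd]
    rw [Finset.sum_comm, Finset.sum_mul, mul_comm ((orbit H lam).card : ℂ), ← mul_assoc,
      mul_comm _ ((orbit H lam).card : ℂ), ← nsmul_eq_mul, ← Finset.sum_const]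
    refine Finset.sum_congr rfl fun mu hmu => ?_
    obtain ⟨m, rfl⟩ := mem_orbit.1 hmu
    rw [sum_cf2, cf_comp_cj, (cf_eq_acf χ lam).1]
    ring
  have hlow : ∀ g : G, (Nat.card H : ℝ) * (acf H (χ : G → ℂ) lam - acf H (χ : G → ℂ) nu) ≤
      ∑ mu ∈ orbit H lam, S g mu := by
    intro g
    have h1 := hS.cf2_twist hC g lam
    have h2 := hS.cf2_twist hC g nu
    rw [hSe, (cf_eq_acf χ lam).1] at h1
    obtain ⟨t, ht, hte⟩ := hS.exists_cf2_eq χ g nu (nu.comp (cj (hS.mon g)))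
    rw [hte, (cf_eq_acf χ nu).1] at h2
    have h3 : S g (lam.comp (cj (hS.mon g))) - t =
        (Nat.card H : ℝ) * (acf H (χ : G → ℂ) lam - acf H (χ : G → ℂ) nu) := by
      apply Complex.ofReal_injective
      push_cast
      rw [h1, h2]; ring
    exact le_trans (by linarith) (Finset.single_le_sum (fun mu _ => hS0 g mu)
      (mem_orbit.2 ⟨hS.mon g, rfl⟩))
  refine le_of_mul_le_mul_left ?_ (Nat.cast_pos.2 (Nat.card_pos (α := G)) : (0 : ℝ) < Nat.card G)
  rw [← hsum, ← mul_assoc, Nat.card_eq_fintype_card, ← nsmul_eq_mul, ← Finset.card_univ,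
    ← Finset.sum_const]
  exact mul_le_mul_of_nonneg_right (Finset.sum_le_sum fun g _ => hlow g) hd0

theorem eq_one_of_acf_eq_zero (hS : Setup p H) (hC : Const p H χ)
    (hgen : normalClosure (H : Set G) = ⊤) {nu : H →* ℂˣ} (h0 : acf H (χ : G → ℂ) nu = 0) :
    (χ : G → ℂ) 1 = 1 := by
  classical
  have hd : (χ : G → ℂ) 1 = (((χ : G → ℂ) 1).re : ℂ) := by rw [(irr_one χ).1]; simp
  have hcf : cf H (χ : G → ℂ) nu = 0 := by rw [(cf_eq_acf χ nu).1, h0, Complex.ofReal_zero]
  have hzero : ∀ g : G, cf2 H (χ : G → ℂ) g nu (nu.comp (cj (hS.mon g))) = 0 := by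
    choose S hS0 hSe using fun g mu => hS.exists_cf2_eq χ g nu mu
    have hsum : ∑ g : G, ∑ mu ∈ orbit H nu, S g mu = 0 := by
      apply Complex.ofReal_injective
      push_cast
      simp only [← hSe]
      rw [Finset.sum_comm]
      refine Finset.sum_eq_zero fun mu hmu => ?_
      have := sum_cf2 χ nu mu
      rw [hcf, zero_mul, mul_zero] at this
      exact (mul_eq_zero.1 this).resolve_right (irr_one_ne_zero χ)
    intro g
    rw [hSe, (Finset.sum_eq_zero_iff_of_nonneg fun mu _ => hS0 g mu).1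
      ((Finset.sum_eq_zero_iff_of_nonneg fun a _ => Finset.sum_nonneg fun mu _ => hS0 a mu).1 hsum g
        (Finset.mem_univ g)) _ (mem_orbit.2 ⟨hS.mon g, rfl⟩),
      Complex.ofReal_zero]
  have hker : ∀ (g : G) (k : H), (χ : G → ℂ) (hS.rest g k) = (χ : G → ℂ) 1 := by
    intro g k
    have h1 := hS.cf2_twist hC g nu
    rw [hzero g, hcf, mul_zero, zero_add, eq_comm, sub_eq_zero] at h1
    have h2 := congrArg Complex.re h1
    rw [Complex.re_sum, hd, ← Complex.ofReal_natCast, ← Complex.ofReal_mul, Complex.ofReal_re] at h2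
    have hle : ∀ v : G, ((χ : G → ℂ) v).re ≤ ((χ : G → ℂ) 1).re := fun v =>
      (Complex.re_le_norm _).trans (IsCharacter.norm_apply_le (isCharacter_irr χ) v)
    have h3 : ∑ j : H, (((χ : G → ℂ) 1).re - ((χ : G → ℂ) (hS.rest g j)).re) = 0 := by
      rw [Finset.sum_sub_distrib, h2, Finset.sum_const, Finset.card_univ, nsmul_eq_mul,
        ← Nat.card_eq_fintype_card, sub_self]
    have h4 := (Finset.sum_eq_zero_iff_of_nonneg fun j _ => sub_nonneg.2 (hle _)).1 h3 k
      (Finset.mem_univ k)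
    have h5 := IsCharacter.norm_apply_le (isCharacter_irr χ) (hS.rest g k)
    refine Complex.ext (by linarith) ?_
    rw [hd, Complex.ofReal_im]
    have h6 : ((χ : G → ℂ) (hS.rest g k)).re = ‖(χ : G → ℂ) (hS.rest g k)‖ :=
      le_antisymm (Complex.re_le_norm _) (by linarith)
    exact (Complex.re_eq_norm.1 h6).2.symm
  set K := kerSubgroup (isCharacter_irr χ) with hK
  have hKn : K.Normal := ⟨fun a ha g => by
    show (χ : G → ℂ) (g * a * g⁻¹) = (χ : G → ℂ) 1
    rw [isClassFunction_irr χ a g]; exact ha⟩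
  have htop : H ⊔ K = ⊤ := by
    rw [eq_top_iff, ← hgen, normalClosure, Subgroup.closure_le]
    intro y hy
    obtain ⟨x, hx, hxy⟩ := Group.mem_conjugatesOfSet_iff.1 hy
    obtain ⟨g, rfl⟩ := isConj_iff.1 hxy
    rw [SetLike.mem_coe, ← hS.mul_rest g ⟨x, hx⟩]
    exact mul_mem (mem_sup_left (SetLike.coe_mem _)) (mem_sup_right (hker g ⟨x, hx⟩))
  have hab : ∀ g k : G, k⁻¹ * (g * k * g⁻¹) ∈ K := by
    intro g k
    obtain ⟨a, ha, b, hb, hab⟩ := Subgroup.mem_sup_of_normal_right.1 (show g ∈ H ⊔ K by rw [htop]; exact mem_top g)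
    obtain ⟨a', ha', b', hb', hab'⟩ := Subgroup.mem_sup_of_normal_right.1 (show k ∈ H ⊔ K by rw [htop]; exact mem_top k)
    rw [← QuotientGroup.eq_one_iff (N := K), ← hab, ← hab']
    simp only [QuotientGroup.mk_mul, QuotientGroup.mk_inv, (QuotientGroup.eq_one_iff _).2 hb,
      (QuotientGroup.eq_one_iff _).2 hb', mul_one]
    rw [← QuotientGroup.mk_mul, ← QuotientGroup.mk_inv, ← QuotientGroup.mk_inv,
      ← QuotientGroup.mk_mul, ← QuotientGroup.mk_mul, hS.comm a ha a' ha', QuotientGroup.eq_one_iff]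
    simp [mul_assoc, K.one_mem]
  have habs : ∀ h : G, ‖(χ : G → ℂ) h‖ ^ 2 = ((χ : G → ℂ) 1).re ^ 2 := by
    intro h
    have h1 := sum_conj_mul χ h h⁻¹
    have h2 : ∀ g : G, (χ : G → ℂ) (h * (g * h⁻¹ * g⁻¹)) = (χ : G → ℂ) 1 := fun g => by
      have := hab g h⁻¹
      rwa [inv_inv] at this
    rw [Finset.sum_congr rfl fun g _ => h2 g, Finset.sum_const, Finset.card_univ, nsmul_eq_mul,
      ← Nat.card_eq_fintype_card, mul_assoc] at h1
    have h3 := mul_left_cancel₀ (by exact_mod_cast Nat.card_pos.ne' : (Nat.card G : ℂ) ≠ 0) h1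
    rw [← conj_irr, Complex.mul_conj'] at h3
    rw [hd] at h3
    have h4 : (((χ : G → ℂ) 1).re * ((χ : G → ℂ) 1).re : ℝ) = ‖(χ : G → ℂ) h‖ ^ 2 := by
      exact_mod_cast h3
    rw [← h4]; ring
  have hs := sum_norm_sq_eq χ.2
  simp only [habs, Finset.sum_const, Finset.card_univ, nsmul_eq_mul,
    ← Nat.card_eq_fintype_card] at hs
  have h1 : ((χ : G → ℂ) 1).re ^ 2 = 1 :=
    mul_left_cancel₀ (Nat.cast_ne_zero.2 (Nat.card_pos (α := G)).ne') (hs.trans (mul_one _).symm)
  have h0' : (0 : ℝ) ≤ ((χ : G → ℂ) 1).re := by rw [(irr_one χ).1]; simp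
  rw [hd, show ((χ : G → ℂ) 1).re = 1 by nlinarith, Complex.ofReal_one]

theorem sum_acf (hS : Setup p H) :
    ∑ lam : H →* ℂˣ, acf H (χ : G → ℂ) lam = (Nat.card H : ℝ) * ((χ : G → ℂ) 1).re := by
  have h := hS.sum_cf (χ : G → ℂ) 1
  simp only [map_one, Units.val_one, one_mul, OneMemClass.coe_one] at h
  have := congrArg Complex.re h
  rwa [Complex.re_sum, Complex.mul_re, Complex.natCast_re, Complex.natCast_im, zero_mul,
    sub_zero] at this

variable (hS : Setup p H) (hC : Const p H χ) (hgen : normalClosure (H : Set G) = ⊤)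
  (hne : (χ : G → ℂ) 1 ≠ 1)
include hS hC hgen hne

theorem acf_pos (lam : H →* ℂˣ) : 0 < acf H (χ : G → ℂ) lam :=
  (cf_eq_acf χ lam).2.lt_of_ne' fun h => hne (eq_one_of_acf_eq_zero hS hC hgen h)

theorem orbit_mul_acf_le (lam : H →* ℂˣ) :
    ((Nat.card H : ℝ) - (orbit H lam).card) * acf H (χ : G → ℂ) lam ≤
        (Nat.card H : ℝ) * ((χ : G → ℂ) 1).re ∧
      ((orbit H lam).card : ℝ) * acf H (χ : G → ℂ) lam ≤
        (Nat.card H : ℝ) * ((χ : G → ℂ) 1).re := by
  classical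
  have hconst : ∀ mu ∈ orbit H lam, acf H (χ : G → ℂ) mu = acf H (χ : G → ℂ) lam := by
    intro mu hmu
    obtain ⟨m, rfl⟩ := mem_orbit.1 hmu
    rw [acf, acf, cf_comp_cj]
  have hsplit := Finset.sum_add_sum_compl (orbit H lam) (fun mu => acf H (χ : G → ℂ) mu)
  rw [sum_acf hS, Finset.sum_congr rfl hconst, Finset.sum_const, nsmul_eq_mul] at hsplit
  have hc : ((orbit H lam)ᶜ.card : ℝ) = (Nat.card H : ℝ) - (orbit H lam).card := by
    rw [Finset.card_compl, hS.card_dual, Nat.cast_sub]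
    rw [← hS.card_dual]; exact Finset.card_le_univ _
  have hrest := Finset.sum_nonneg (s := (orbit H lam)ᶜ) fun mu _ => (cf_eq_acf χ mu).2
  have hle : ((orbit H lam).card : ℝ) * acf H (χ : G → ℂ) lam ≤
      (Nat.card H : ℝ) * ((χ : G → ℂ) 1).re := by linarith
  refine ⟨?_, hle⟩
  have hsum := Finset.sum_le_sum fun nu (_ : nu ∈ (orbit H lam)ᶜ) => orbit_bound hS hC lam nu
  rw [← Finset.sum_mul, ← Finset.mul_sum, Finset.sum_sub_distrib, Finset.sum_const,
    Finset.sum_const, nsmul_eq_mul, nsmul_eq_mul, hc] at hsum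
  rcases hle.lt_or_eq with h | h
  · rw [show ∑ mu ∈ (orbit H lam)ᶜ, acf H (χ : G → ℂ) mu = (Nat.card H : ℝ) * ((χ : G → ℂ) 1).re -
      (orbit H lam).card * acf H (χ : G → ℂ) lam by linarith] at hsum
    by_contra hlt
    nlinarith [mul_pos (sub_pos.2 (not_le.1 hlt)) (sub_pos.2 h)]
  · have hempty : (orbit H lam)ᶜ = ∅ := by
      by_contra hne'
      have := Finset.sum_pos (fun mu (_ : mu ∈ (orbit H lam)ᶜ) => acf_pos hS hC hgen hne mu)
        (Finset.nonempty_iff_ne_empty.2 hne')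
      linarith
    rw [hempty, Finset.card_empty, Nat.cast_zero] at hc
    rw [← hc, zero_mul, ← h]
    exact mul_nonneg (Nat.cast_nonneg _) (cf_eq_acf χ lam).2

theorem acf_le (lam : H →* ℂˣ) : acf H (χ : G → ℂ) lam ≤ 2 * ((χ : G → ℂ) 1).re := by
  obtain ⟨h1, h2⟩ := orbit_mul_acf_le hS hC hgen hne lam
  have hN : (0 : ℝ) < Nat.card H := Nat.cast_pos.2 Nat.card_pos
  nlinarith

theorem acf_one_le : ((Nat.card H : ℝ) - 1) * acf H (χ : G → ℂ) 1 ≤
    (Nat.card H : ℝ) * ((χ : G → ℂ) 1).re := by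
  classical
  have h := (orbit_mul_acf_le hS hC hgen hne 1).1
  have h1 : orbit H (1 : H →* ℂˣ) = {1} := by
    refine Finset.eq_singleton_iff_unique_mem.2 ⟨mem_orbit.2 ⟨1, ?_⟩,
      fun mu hmu => ?_⟩
    · exact MonoidHom.one_comp _
    · obtain ⟨m, rfl⟩ := mem_orbit.1 hmu
      exact MonoidHom.one_comp _
  rwa [h1, Finset.card_singleton, Nat.cast_one] at h

theorem norm_lt {z : G} (hz : z ∈ H) (hz1 : z ≠ 1) :
    ‖(χ : G → ℂ) z‖ < ((χ : G → ℂ) 1).re := by
  classical
  refine lt_of_le_of_ne (IsCharacter.norm_apply_le (isCharacter_irr χ) z) fun heq => ?_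
  set d := ((χ : G → ℂ) 1).re with hd
  have hd0 : 0 < d := by rw [hd, (irr_one χ).1]; simpa using (irr_one χ).2
  set w : ℂ := conj ((χ : G → ℂ) z) / (d : ℂ) with hw
  have hw1 : ‖w‖ = 1 := by
    rw [hw, norm_div, Complex.norm_conj, heq, Complex.norm_real, Real.norm_eq_abs, abs_of_pos hd0,
      div_self hd0.ne']
  have hwz : w * (χ : G → ℂ) z = (d : ℂ) := by
    rw [hw, div_mul_eq_mul_div, Complex.conj_mul', heq, sq, mul_div_cancel_right₀]
    exact_mod_cast hd0.ne'
  have hkey : ∑ lam : H →* ℂˣ, acf H (χ : G → ℂ) lam * (1 - (w * (lam ⟨z, hz⟩ : ℂ)).re) = 0 := by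
    have h := congrArg (fun t => (w * t).re) (hS.sum_cf (χ : G → ℂ) ⟨z, hz⟩)
    simp only [Finset.mul_sum, Complex.re_sum] at h
    simp only [mul_sub, mul_one, Finset.sum_sub_distrib, sum_acf hS]
    rw [sub_eq_zero]
    calc (Nat.card H : ℝ) * d = (w * ((Nat.card H : ℂ) * (χ : G → ℂ) z)).re := by
          rw [mul_left_comm, hwz, ← Complex.ofReal_natCast, ← Complex.ofReal_mul, Complex.ofReal_re]
      _ = _ := by
          rw [← h]
          refine Finset.sum_congr rfl fun lam _ => ?_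
          rw [← mul_assoc, (cf_eq_acf χ lam).1, mul_comm _ ((_ : ℝ) : ℂ), Complex.re_ofReal_mul]
  have hnn : ∀ lam : H →* ℂˣ, 0 ≤ acf H (χ : G → ℂ) lam * (1 - (w * (lam ⟨z, hz⟩ : ℂ)).re) := by
    intro lam
    refine mul_nonneg (cf_eq_acf χ lam).2 (sub_nonneg.2 ((Complex.re_le_norm _).trans (le_of_eq ?_)))
    rw [norm_mul, hw1, norm_hom, mul_one]
  have hall : ∀ lam : H →* ℂˣ, w * (lam ⟨z, hz⟩ : ℂ) = 1 := by
    intro lam
    have h1 := (mul_eq_zero.1 ((Finset.sum_eq_zero_iff_of_nonneg fun l _ => hnn l).1 hkey lam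
      (Finset.mem_univ _))).resolve_left (acf_pos hS hC hgen hne lam).ne'
    have h2 : ‖w * (lam ⟨z, hz⟩ : ℂ)‖ = 1 := by rw [norm_mul, hw1, norm_hom, mul_one]
    have h3 : (w * (lam ⟨z, hz⟩ : ℂ)).re = ‖w * (lam ⟨z, hz⟩ : ℂ)‖ := by linarith
    exact Complex.ext (by rw [Complex.one_re]; linarith)
      (by rw [Complex.one_im]; exact (Complex.re_eq_norm.1 h3).2.symm)
  have hw' : w = 1 := by simpa using hall 1
  have := hS.sum_dual ⟨z, hz⟩
  rw [if_neg (fun h => hz1 (congrArg Subtype.val h)), Finset.sum_congr rfl fun lam _ =>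
    (by simpa [hw'] using hall lam : ((lam ⟨z, hz⟩ : ℂˣ) : ℂ) = 1)] at this
  simp [hS.card_dual] at this

open Classical in
/-- The cubic sum of the values on the nontrivial elements of `H` is bounded by the quadratic one. -/
theorem cubic_le (f : H → ℂ) (hf : ∀ h : H, f h = if h = 1 then 0 else (χ : G → ℂ) h) :
    (∑ h : H, ∑ k : H, f h * f k * conj (f (h * k))).re ≤
      ((χ : G → ℂ) 1).re * ∑ h : H, ‖f h‖ ^ 2 := by
  have hd : (χ : G → ℂ) 1 = (((χ : G → ℂ) 1).re : ℂ) := by rw [(irr_one χ).1]; simp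
  set d := ((χ : G → ℂ) 1).re
  set B : (H →* ℂˣ) → ℝ := fun lam => acf H (χ : G → ℂ) lam - d with hB
  have hf0 : ∀ lam : H →* ℂˣ, ∑ h : H, (lam h⁻¹ : ℂ) * f h = (B lam : ℂ) := by
    intro lam
    rw [hB, Complex.ofReal_sub, ← (cf_eq_acf χ lam).1, ← hd, cf, eq_sub_iff_add_eq,
      ← eq_sub_iff_add_eq', ← Finset.sum_sub_distrib, Finset.sum_eq_single (1 : H)
        (fun b _ hb => by rw [hf, if_neg hb, sub_self]) (by simp)]
    simp [hf]
  have hconj : ∀ lam : H →* ℂˣ, ∑ h : H, (lam h : ℂ) * conj (f h) = (B lam : ℂ) := by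
    intro lam
    rw [← Complex.conj_ofReal, ← hf0, map_sum]
    refine Finset.sum_congr rfl fun h _ => ?_
    rw [map_mul, conj_hom, inv_inv]
  have h3 : ∑ lam : H →* ℂˣ, (B lam : ℂ) * B lam * B lam =
      (Nat.card H : ℂ) * ∑ h : H, ∑ k : H, f h * f k * conj (f (h * k)) := by
    calc ∑ lam : H →* ℂˣ, (B lam : ℂ) * B lam * B lam
        = ∑ lam : H →* ℂˣ, (∑ h : H, (lam h⁻¹ : ℂ) * f h) * (∑ k : H, (lam k⁻¹ : ℂ) * f k) *
            ∑ l : H, (lam l : ℂ) * conj (f l) := by simp only [hf0, hconj]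
      _ = ∑ h : H, ∑ k : H, ∑ l : H, f h * f k * conj (f l) *
            ∑ lam : H →* ℂˣ, (lam (h⁻¹ * k⁻¹ * l) : ℂ) := by
          conv_rhs => simp only [Finset.mul_sum]
          conv_rhs =>
            enter [2, h, 2, k]
            rw [Finset.sum_comm]
          conv_rhs =>
            enter [2, h]
            rw [Finset.sum_comm]
          rw [Finset.sum_comm (s := (univ : Finset H))]
          refine Finset.sum_congr rfl fun lam _ => ?_
          rw [Finset.sum_mul, Finset.sum_mul]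
          refine Finset.sum_congr rfl fun h _ => ?_
          rw [Finset.mul_sum (a := (lam h⁻¹ : ℂ) * f h), Finset.sum_mul]
          refine Finset.sum_congr rfl fun k _ => ?_
          rw [Finset.mul_sum]
          refine Finset.sum_congr rfl fun l _ => ?_
          rw [map_mul, map_mul, Units.val_mul, Units.val_mul]
          ring
      _ = _ := by
          rw [Finset.mul_sum]
          refine Finset.sum_congr rfl fun h _ => ?_
          rw [Finset.mul_sum]
          refine Finset.sum_congr rfl fun k _ => ?_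
          have he : ∀ l : H, h⁻¹ * k⁻¹ * l = 1 ↔ h * k = l := fun l => by
            rw [← mul_inv_rev, inv_mul_eq_one,
              (show h * k = k * h from Subtype.ext (hS.comm h h.2 k k.2))]
          simp only [hS.sum_dual, he, mul_ite, mul_zero, Finset.sum_ite_eq, Finset.mem_univ, if_true]
          ring
  have h2 : ∑ lam : H →* ℂˣ, (B lam : ℂ) * B lam =
      (Nat.card H : ℂ) * ((∑ h : H, ‖f h‖ ^ 2 : ℝ) : ℂ) := by
    calc ∑ lam : H →* ℂˣ, (B lam : ℂ) * B lam
        = ∑ lam : H →* ℂˣ, (∑ h : H, (lam h⁻¹ : ℂ) * f h) *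
            ∑ l : H, (lam l : ℂ) * conj (f l) := by simp only [hf0, hconj]
      _ = ∑ h : H, ∑ l : H, f h * conj (f l) * ∑ lam : H →* ℂˣ, (lam (h⁻¹ * l) : ℂ) := by
          conv_rhs => simp only [Finset.mul_sum]
          conv_rhs =>
            enter [2, h]
            rw [Finset.sum_comm]
          rw [Finset.sum_comm (s := (univ : Finset H))]
          refine Finset.sum_congr rfl fun lam _ => ?_
          rw [Finset.sum_mul]
          refine Finset.sum_congr rfl fun h _ => ?_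
          rw [Finset.mul_sum]
          refine Finset.sum_congr rfl fun l _ => ?_
          rw [map_mul, Units.val_mul]
          ring
      _ = _ := by
          rw [Complex.ofReal_sum, Finset.mul_sum]
          refine Finset.sum_congr rfl fun h _ => ?_
          simp only [hS.sum_dual, inv_mul_eq_one, mul_ite, mul_zero, Finset.sum_ite_eq,
            Finset.mem_univ, if_true]
          rw [Complex.mul_conj', Complex.ofReal_pow]
          ring
  have hle : ∑ lam : H →* ℂˣ, B lam * B lam * B lam ≤ d * ∑ lam : H →* ℂˣ, B lam * B lam := by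
    rw [Finset.mul_sum]
    refine Finset.sum_le_sum fun lam _ => mul_le_mul_of_nonneg_right ?_ (mul_self_nonneg _) |>.trans'
      (le_of_eq (by ring))
    have := acf_le hS hC hgen hne lam
    simp only [hB]; linarith
  have e3 := congrArg Complex.re h3
  have e2 := congrArg Complex.re h2
  simp only [← Complex.ofReal_mul, Complex.re_sum, Complex.ofReal_re] at e3 e2
  simp only [Complex.mul_re, Complex.natCast_re, Complex.natCast_im, Complex.ofReal_re, zero_mul,
    sub_zero] at e3 e2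
  rw [e3, e2, mul_left_comm] at hle
  exact le_of_mul_le_mul_left hle (Nat.cast_pos.2 Nat.card_pos)

end Dual

end CfsgLib.ExtClosed
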