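import Cfsg.Agent.ExtClosed.Bound
import Cfsg.Agent.GlaubermanCorr.CyclicMain
import Cfsg.Agent.Blocks.RationalExtension

/-!
# Extremely closed abelian subgroups in a group with a normal complement, for an odd prime
-/

set_option autoImplicit false
set_option linter.unusedSectionVars false
set_option linter.style.haveILetI false

namespace CfsgLib.ExtClosed

open Subgroup CfsgLib.Char CfsgLib.GlaubermanCorr CfsgLib.LocalB
open scoped ComplexConjugate commutatorElement

universe u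

variable {G : Type u} [Group G] [Finite G] {p : ℕ} [hp : Fact p.Prime] {H O : Subgroup G}

/-- The invariant characters of `A` are trivial on `⁅A, H⁆`. -/
def Kills (A H : Subgroup G) : Prop :=
  ∀ f : A → ℂ, Cfsg.IsIrrCharacter A f → (∀ y ∈ H, InvBy A y f) →
    ∀ x : A, (x : G) ∈ (⁅A, H⁆ : Subgroup G) → f x = f 1

/-- No nontrivial element of `⁅A, H⁆` centralizes `H`. -/
def Fpf (A H : Subgroup G) : Prop :=
  ∀ c ∈ (⁅A, H⁆ : Subgroup G), (∀ y ∈ H, c * y = y * c) → c = 1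

theorem mem_of_coprime_order (hS : Setup p H) [O.Normal] (htop : H ⊔ O = ⊤) {x : G}
    (hx : ¬ p ∣ orderOf x) : x ∈ O := by
  obtain ⟨y, hy, o, ho, rfl⟩ := Subgroup.mem_sup_of_normal_right.1
    (show x ∈ H ⊔ O by rw [htop]; exact mem_top x)
  obtain ⟨k, hk⟩ := IsPGroup.iff_orderOf.1 hS.pg ⟨y, hy⟩
  rw [Subgroup.orderOf_mk] at hk
  rw [← QuotientGroup.eq_one_iff (N := O), ← orderOf_eq_one_iff]
  have h1 : orderOf ((y * o : G) : G ⧸ O) ∣ orderOf (y * o) :=
    orderOf_map_dvd (QuotientGroup.mk' O) (y * o)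
  have h2 : orderOf ((y * o : G) : G ⧸ O) ∣ p ^ k := by
    rw [QuotientGroup.mk_mul, (QuotientGroup.eq_one_iff o).2 ho, mul_one, ← hk]
    exact orderOf_map_dvd (QuotientGroup.mk' O) y
  exact Nat.eq_one_of_dvd_coprimes (((Nat.Prime.coprime_iff_not_dvd hp.out).2 hx).pow_left k) h2 h1

theorem commutator_le_ker {A : Subgroup G} {f : A → ℂ} (hf : Cfsg.IsCharacter A f)
    (hmem : ∀ a ∈ A, ∀ y ∈ H, ∃ hc : ⁅a, y⁆ ∈ A, f ⟨⁅a, y⁆, hc⟩ = f 1) :
    ∀ x : A, (x : G) ∈ (⁅A, H⁆ : Subgroup G) → f x = f 1 := by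
  have hle : (⁅A, H⁆ : Subgroup G) ≤ (kerSubgroup hf).map A.subtype :=
    commutator_le.2 fun a ha y hy => by
      obtain ⟨hc, hc'⟩ := hmem a ha y hy
      exact ⟨⟨⁅a, y⁆, hc⟩, hc', rfl⟩
  intro x hx
  obtain ⟨x', hx', he⟩ := hle hx
  rw [← Subtype.ext he]
  exact hx'

theorem commutator_mem_of_normal [O.Normal] {o : G} (ho : o ∈ O) (y : G) : ⁅o, y⁆ ∈ O := by
  rw [commutatorElement_def, show o * y * o⁻¹ * y⁻¹ = o * (y * o⁻¹ * y⁻¹) by group]
  exact mul_mem ho (Subgroup.Normal.conj_mem inferInstance _ (inv_mem ho) y)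

/-- The hypotheses on a proper centralizer, inside the subgroup it generates with `H`. -/
theorem transfer (hS : Setup p H) (hA : H ≤ normalizer (O : Set G))
    (hO : (Nat.card O).Coprime p)
    (hrec : ∀ (Y : Subgroup G) (O' : Subgroup Y), O'.Normal → (Nat.card O').Coprime p →
      H.subgroupOf Y ⊔ O' = ⊤ → Nat.card O' = Nat.card O → Setup p (H.subgroupOf Y) →
      Kills O' (H.subgroupOf Y) ∧ Fpf O' (H.subgroupOf Y)) :
    Kills O H ∧ Fpf O H := by
  obtain ⟨Y, hY⟩ : ∃ Y, Y = H ⊔ O := ⟨_, rfl⟩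
  have hHY : H ≤ Y := hY ▸ le_sup_left
  have hOY : O ≤ Y := hY ▸ le_sup_right
  haveI hOn : (O.subgroupOf Y).Normal := (Subgroup.normal_subgroupOf_iff_le_normalizer hOY).2
    (hY ▸ sup_le hA Subgroup.le_normalizer)
  have hcard : Nat.card (O.subgroupOf Y) = Nat.card O :=
    Nat.card_congr (Subgroup.subgroupOfEquivOfLe hOY).toEquiv
  have htop : H.subgroupOf Y ⊔ O.subgroupOf Y = ⊤ := by
    rw [← subgroupOf_sup hHY hOY, ← hY, subgroupOf_self]
  obtain ⟨hk, hf⟩ := hrec Y _ hOn (hcard ▸ hO) htop hcard (hS.subgroupOf hHY)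
  have hcomm : (⁅O.subgroupOf Y, H.subgroupOf Y⁆ : Subgroup Y).map Y.subtype = ⁅O, H⁆ := by
    rw [map_commutator, subgroupOf_map_subtype, subgroupOf_map_subtype, inf_of_le_left hOY,
      inf_of_le_left hHY]
  set e : O.subgroupOf Y ≃* O := Subgroup.subgroupOfEquivOfLe hOY
  constructor
  · intro f hf' hinv x hx
    have hx' : (⟨x, hOY x.2⟩ : Y) ∈ (⁅O.subgroupOf Y, H.subgroupOf Y⁆ : Subgroup Y) := by
      rw [← hcomm] at hx
      obtain ⟨z, hz, hze⟩ := hx
      rwa [show (⟨x, hOY x.2⟩ : Y) = z from Subtype.ext hze.symm]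
    have := hk (fun z => f (e z)) (IsIrrCharacter.comp_surjective hf' e.toMonoidHom e.surjective)
      (fun y hy k k' hkk => hinv y hy (e k) (e k') (congrArg Subtype.val hkk))
      ⟨⟨x, hOY x.2⟩, x.2⟩ hx'
    simp only [map_one] at this
    exact this
  · intro c hc hcy
    rw [← hcomm] at hc
    obtain ⟨z, hz, rfl⟩ := hc
    rw [hf z hz fun y hy => Subtype.ext (hcy y hy), map_one]

section Odd

variable [O.Normal] (hS : Setup p H) (hp2 : p ≠ 2) (hO : (Nat.card O).Coprime p) (htop : H ⊔ O = ⊤)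

omit hp2 in
theorem copSetup {h : G} (hh : h ∈ H) (hOc : (Nat.card O).Coprime p) (hSS : Setup p H)
    {X : Subgroup G} (hX : X = O ⊔ zpowers h) :
    ∃ hs : h ∈ X, CopSetup (O.subgroupOf X) (⟨h, hs⟩ : X) (orderOf h)
      ((O ⊓ centralizer ({h} : Set G)).subgroupOf X) := by
  have hs : h ∈ X := hX ▸ mem_sup_right (mem_zpowers h)
  have hOX : O ≤ X := hX ▸ le_sup_left
  refine ⟨hs, Subgroup.orderOf_mk _ _, ?_, fun g => ?_, fun k => ?_⟩
  · rw [Nat.card_congr (Subgroup.subgroupOfEquivOfLe hOX).toEquiv]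
    obtain ⟨k, hk⟩ := IsPGroup.iff_orderOf.1 hSS.pg ⟨h, hh⟩
    rw [Subgroup.orderOf_mk] at hk
    rw [hk]
    exact hOc.pow_right k
  · obtain ⟨k, hk, y, hy, hky⟩ := Subgroup.mem_sup_of_normal_left.1
      (show (g : G) ∈ O ⊔ zpowers h by rw [← hX]; exact g.2)
    obtain ⟨i, rfl⟩ := (Submonoid.mem_powers_iff _ _).1 (mem_powers_iff_mem_zpowers.2 hy)
    exact ⟨⟨k, hOX hk⟩, hk, i, Subtype.ext hky.symm⟩
  · simp only [mem_subgroupOf, mem_inf, mem_centralizer_singleton_iff, Subtype.ext_iff,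
      Subgroup.coe_mul]
    exact and_congr_right fun _ => eq_comm

/-- Conjugation by an element of `H` on the subgroup generated by `O` and an element of `H`. -/
theorem exists_conj_hom {h y : G} (hh : h ∈ H) (hy : y ∈ H) (hSS : Setup p H) {X : Subgroup G}
    (hX : X = O ⊔ zpowers h) :
    ∃ α : X →* X, Function.Bijective α ∧ ∀ x : X, (α x : G) = y * x * y⁻¹ := by
  have hle : ∀ z ∈ H, ∀ x ∈ X, z * x * z⁻¹ ∈ X := fun z hz => by
    have : X ≤ X.comap (MulAut.conj z).toMonoidHom := by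
      conv_lhs => rw [hX]
      refine sup_le (fun o ho => ?_) (zpowers_le.2 ?_)
      · show z * o * z⁻¹ ∈ X
        rw [hX]
        exact mem_sup_left (Subgroup.Normal.conj_mem inferInstance o ho z)
      · show z * h * z⁻¹ ∈ X
        rw [hSS.comm z hz h hh, mul_inv_cancel_right, hX]
        exact mem_sup_right (mem_zpowers h)
    exact fun x hx => this hx
  let α : X →* X :=
    { toFun := fun x => ⟨y * x * y⁻¹, hle y hy x x.2⟩
      map_one' := Subtype.ext (by simp)
      map_mul' := fun a b => Subtype.ext (by push_cast; group) }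
  refine ⟨α, ⟨fun a b hab => ?_, fun b => ⟨⟨y⁻¹ * b * y⁻¹⁻¹, hle _ (inv_mem hy) b b.2⟩, ?_⟩⟩,
    fun _ => rfl⟩
  · have := congrArg Subtype.val hab
    exact Subtype.ext (mul_left_cancel (mul_right_cancel (this : y * (a : G) * y⁻¹ = y * b * y⁻¹)))
  · exact Subtype.ext (by simp [α, mul_assoc])

theorem isCan_comp {X : Subgroup G} {h : G} {hs : h ∈ X} {y : G} {η : X → ℂ}
    (hη : IsCan (O.subgroupOf X) (⟨h, hs⟩ : X) η) {α : X →* X} (hα : Function.Bijective α)
    (hval : ∀ x : X, (α x : G) = y * x * y⁻¹) (hfix : y * h * y⁻¹ = h) :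
    IsCan (O.subgroupOf X) (⟨h, hs⟩ : X) fun x => η (α x) := by
  let αK : ↥(O.subgroupOf X) →* ↥(O.subgroupOf X) :=
    { toFun := fun k => ⟨α k, by
        rw [mem_subgroupOf, hval]; exact (inferInstance : O.Normal).conj_mem _ k.2 y⟩
      map_one' := Subtype.ext (by simp)
      map_mul' := fun a b => Subtype.ext (by simp) }
  have hsurj : Function.Surjective αK := fun b => by
    obtain ⟨a, ha⟩ := hα.2 (b : X)
    refine ⟨⟨a, ?_⟩, Subtype.ext ha⟩
    have hb : y * (a : G) * y⁻¹ ∈ O := by rw [← hval a, ha]; exact b.2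
    have := Subgroup.Normal.conj_mem (inferInstance : O.Normal) _ hb y⁻¹
    simpa [mem_subgroupOf, mul_assoc] using this
  refine ⟨IsIrrCharacter.comp_surjective hη.irr α hα.2,
    IsIrrCharacter.comp_surjective hη.res αK hsurj, ?_⟩
  rw [CfsgLib.Block.RatExt.detChar_comp_hom (IsIrrCharacter.isCharacter hη.irr) α,
    show α ⟨h, hs⟩ = ⟨h, hs⟩ from Subtype.ext ((hval _).trans hfix)]
  exact hη.det

include hS hp2 hO htop

theorem kills_of_rec
    (hrec : ∀ h ∈ H, O ⊓ centralizer ({h} : Set G) ≠ O →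
      Kills (O ⊓ centralizer ({h} : Set G)) H) :
    Kills O H := by
  intro f hf hinv
  refine commutator_le_ker (IsIrrCharacter.isCharacter hf) fun a ha h hh => ?_
  refine ⟨commutator_mem_of_normal ha h, ?_⟩
  by_cases hA : O ⊓ centralizer ({h} : Set G) = O
  · congr 1
    refine Subtype.ext ?_
    have h1 : a * h = h * a := mem_centralizer_singleton_iff.1 (hA.ge ha).2
    simp [commutatorElement_def, h1]
  set A := O ⊓ centralizer ({h} : Set G) with hAdef
  obtain ⟨X, hX⟩ : ∃ X, X = O ⊔ zpowers h := ⟨_, rfl⟩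
  have hOX : O ≤ X := hX ▸ le_sup_left
  obtain ⟨hs, hcop⟩ := copSetup hh hO hS hX
  haveI : Fintype X := Fintype.ofFinite _
  haveI : Fintype ↥(O.subgroupOf X) := Fintype.ofFinite _
  haveI : Fintype ↥((O ⊓ centralizer ({h} : Set G)).subgroupOf X) := Fintype.ofFinite _
  haveI : NeZero (orderOf h) := ⟨(orderOf_pos h).ne'⟩
  let e : ↥(O.subgroupOf X) ≃* O := Subgroup.subgroupOfEquivOfLe hOX
  obtain ⟨η, hη, hres⟩ := hcop.exists_can
    ⟨fun k => f (e k), IsIrrCharacter.comp_surjective hf e.toMonoidHom e.surjective⟩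
    (fun k k' hkk => hinv h hh (e k) (e k') (congrArg Subtype.val hkk))
  obtain ⟨β, ε, hε, hval, -⟩ := hcop.exists_value hη
  have hcl := IsIrrCharacter.isClassFunction hη.irr
  have hval1 : ∀ c : ↥((O ⊓ centralizer ({h} : Set G)).subgroupOf X),
      η ((c : X) * ⟨h, hs⟩) = (ε : ℂ) * (β : _ → ℂ) c := fun c => by
    simpa using hval c 1 (Nat.coprime_one_left _)
  have hAX : A ≤ X := inf_le_left.trans hOX
  let eA : ↥(A.subgroupOf X) ≃* A := Subgroup.subgroupOfEquivOfLe hAX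
  set g : A → ℂ := fun x => (β : _ → ℂ) (eA.symm x) with hg
  have hgirr : Cfsg.IsIrrCharacter A g :=
    IsIrrCharacter.comp_surjective β.2 eA.symm.toMonoidHom eA.symm.surjective
  have hginv : ∀ y ∈ H, InvBy A y g := by
    intro y hy k k' hkk
    have hfix : y * h * y⁻¹ = h := by rw [hS.comm y hy h hh, mul_inv_cancel_right]
    obtain ⟨α, hα, hαval⟩ := exists_conj_hom hh hy hS hX
    have heq : (fun x => η (α x)) = η := hcop.can_unique (isCan_comp hη hα hαval hfix) hη fun j => by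
      have hj : y * ((j : X) : G) * y⁻¹ ∈ O := (inferInstance : O.Normal).conj_mem _ j.2 y
      have h1 : α j = ((⟨⟨y * ((j : X) : G) * y⁻¹, hOX hj⟩, hj⟩ : ↥(O.subgroupOf X)) : X) :=
        Subtype.ext (hαval _)
      show η (α j) = η j
      rw [h1, hres, hres]
      exact hinv y hy (e j) (e ⟨⟨_, hOX hj⟩, hj⟩) rfl
    have h1 := congrFun heq ((eA.symm k : X) * ⟨h, hs⟩)
    rw [map_mul, show α ⟨h, hs⟩ = ⟨h, hs⟩ from Subtype.ext ((hαval _).trans hfix),
      show α (eA.symm k : X) = (eA.symm k' : X) from Subtype.ext ((hαval _).trans hkk.symm),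
      hval1, hval1] at h1
    exact mul_left_cancel₀ (by rcases hε with rfl | rfl <;> norm_num) h1
  have hkill := hrec h hh hA g hgirr hginv
  set KA : Subgroup G := (kerSubgroup (IsIrrCharacter.isCharacter hgirr)).map A.subtype with hKA
  have hHKA : H ≤ normalizer (KA : Set G) := fun y hy => mem_normalizer_of_conj_le fun x hx => by
    obtain ⟨x', hx', rfl⟩ := hx
    have hm : y * (x' : G) * y⁻¹ ∈ A := by
      refine ⟨Subgroup.Normal.conj_mem inferInstance _ x'.2.1 y,
        mem_centralizer_singleton_iff.2 ?_⟩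
      have h1 : (x' : G) * h = h * x' := mem_centralizer_singleton_iff.1 x'.2.2
      have h2 : y * h = h * y := hS.comm y hy h hh
      have h3 : y⁻¹ * h = h * y⁻¹ := hS.comm _ (inv_mem hy) h hh
      calc y * (x' : G) * y⁻¹ * h = y * ((x' : G) * h) * y⁻¹ := by
            rw [mul_assoc _ y⁻¹ h, h3]; group
        _ = h * (y * (x' : G) * y⁻¹) := by rw [h1, ← mul_assoc y h, h2]; group
    exact ⟨⟨_, hm⟩, (hginv y hy x' ⟨_, hm⟩ rfl).trans hx', rfl⟩
  have hKAc : (Nat.card KA).Coprime p := coprime_of_le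
    ((map_subtype_le _).trans inf_le_left : KA ≤ O) hO
  have hterm : ∀ k : G, k ∈ O → ∀ hm : h * (k * h * k⁻¹) ∈ X,
      η ⟨h * (k * h * k⁻¹), hm⟩ = (ε : ℂ) * (β : ↥((O ⊓ centralizer ({h} : Set G)).subgroupOf X) → ℂ) 1 := by
    intro k hk hm
    have he : h⁻¹ * (k * h * k⁻¹) ∈ O := by
      rw [show h⁻¹ * (k * h * k⁻¹) = (h⁻¹ * k * h⁻¹⁻¹) * k⁻¹ by group]
      exact mul_mem (Subgroup.Normal.conj_mem inferInstance k hk h⁻¹) (inv_mem hk)
    have hec : h⁻¹ * (k * h * k⁻¹) ∈ core p H k := by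
      refine hS.mem_core_of_coprime (mul_mem (inv_mem (le_pair k hh)) (conj_mem_pair hh k))
        fun hd => ?_
      exact hp.out.coprime_iff_not_dvd.1 hO.symm (hd.trans (Subgroup.orderOf_dvd_natCard O he))
    obtain ⟨r, hr, v, hv, hcomm, hconj⟩ := hS.exists_conj_fix (mul_mem hh hh) hec
    have hcoreO : ∀ x ∈ core p H k, x ∈ O := fun x hx => mem_of_coprime_order hS htop fun hd =>
      hp.out.coprime_iff_not_dvd.1 (card_core_coprime k).symm
        (hd.trans (Subgroup.orderOf_dvd_natCard _ hx))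
    obtain ⟨j, hj⟩ := IsPGroup.iff_orderOf.1 hS.pg ⟨h, hh⟩
    rw [Subgroup.orderOf_mk] at hj
    have h2q : Nat.Coprime 2 (orderOf h) := by
      rw [hj]; exact ((Nat.coprime_primes Nat.prime_two hp.out).2 hp2.symm).pow_right j
    obtain ⟨i, hi⟩ := exists_pow_eq_self_of_coprime (x := h) h2q
    have hvA : v ∈ A := by
      refine ⟨hcoreO v hv, mem_centralizer_singleton_iff.2 ?_⟩
      have h1 : Commute v ((h * h) ^ i) := (Commute.pow_left (hcomm : Commute (h * h) v) i).symm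
      rw [← pow_two, hi] at h1
      exact h1.eq
    have hvK : v ∈ KA := hS.mem_of_fixes_mod hHKA hKAc hv fun y hy => ⟨y, hy, by
      have hc : ⁅v, y⁻¹⁆ ∈ (⁅A, H⁆ : Subgroup G) := commutator_mem_commutator hvA (inv_mem hy)
      have hmem : ∀ z ∈ (⁅A, H⁆ : Subgroup G), z ∈ A → z ∈ KA := fun z hz hzA =>
        ⟨⟨z, hzA⟩, hkill ⟨z, hzA⟩ hz, rfl⟩
      rw [show y⁻¹ * (v * y * v⁻¹) = ⁅v, y⁻¹⁆⁻¹ by simp [commutatorElement_def, mul_assoc]]
      refine inv_mem (hmem _ hc ⟨commutator_mem_of_normal hvA.1 _,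
        mem_centralizer_singleton_iff.2 ?_⟩)
      have h1 : Commute v h := mem_centralizer_singleton_iff.1 hvA.2
      have h2 : Commute y h := hS.comm y hy h hh
      exact ((((h1.mul_left (h2.inv_left)).mul_left h1.inv_left).mul_left h2.inv_left.inv_left).eq)⟩
    obtain ⟨v', hv', hv'e⟩ := hvK
    have hsq : h * h ∈ X := mul_mem hs hs
    have hrX : r ∈ X := hOX (hcoreO r hr)
    have hconjX : (⟨r, hrX⟩ : X) * ⟨h * (k * h * k⁻¹), hm⟩ * (⟨r, hrX⟩ : X)⁻¹ =
        (⟨v, hAX hvA⟩ : X) * (⟨h, hs⟩ : X) ^ 2 := Subtype.ext (by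
      show r * (h * (k * h * k⁻¹)) * r⁻¹ = v * h ^ 2
      rw [pow_two, ← hcomm, ← hconj]; group)
    rw [← hcl ⟨h * (k * h * k⁻¹), hm⟩ ⟨r, hrX⟩, hconjX,
      hval ⟨⟨v, hAX hvA⟩, hvA⟩ 2 h2q]
    congr 1
    have h1 : g ⟨v, hvA⟩ = g 1 := by
      rw [show (⟨v, hvA⟩ : A) = v' from Subtype.ext hv'e.symm]; exact hv'
    simp only [hg, map_one] at h1
    exact h1
  set s : X := ⟨h, hs⟩
  have hsum := sum_conj_mul (⟨η, hη.irr⟩ : Cfsg.IrrCharacter X) s s
  have hall : ∀ x : X, η (s * (x * s * x⁻¹)) = (ε : ℂ) * (β : ↥((O ⊓ centralizer ({h} : Set G)).subgroupOf X) → ℂ) 1 := by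
    intro x
    obtain ⟨k, hk, i, rfl⟩ := hcop.top x
    have he : k * s ^ i * s * (k * s ^ i)⁻¹ = k * s * k⁻¹ := by
      rw [mul_assoc k, (Commute.pow_self s i).eq]; group
    rw [he]
    exact hterm (k : X) hk (s * (k * s * k⁻¹)).2
  rw [Finset.sum_congr rfl fun x _ => hall x, Finset.sum_const, Finset.card_univ, nsmul_eq_mul,
    ← Nat.card_eq_fintype_card, mul_assoc] at hsum
  have hs1 : η s = (ε : ℂ) * (β : ↥((O ⊓ centralizer ({h} : Set G)).subgroupOf X) → ℂ) 1 := by simpa using hval1 1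
  have h3 := mul_left_cancel₀ (by exact_mod_cast Nat.card_pos.ne' : (Nat.card X : ℂ) ≠ 0) hsum
  have hker : η s = η 1 := by
    change (ε : ℂ) * _ * η 1 = η s * η s at h3
    rw [← hs1] at h3
    refine (mul_left_cancel₀ (fun h0 => ?_) h3).symm
    rw [hs1] at h0
    rcases mul_eq_zero.1 h0 with h0 | h0
    · rcases hε with rfl | rfl <;> norm_num at h0
    · exact IsIrrCharacter.apply_one_ne_zero β.2 h0
  have hχ := IsIrrCharacter.isCharacter hη.irr
  set K := kerSubgroup hχ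
  have hsK : s ∈ K := hker
  set ax : X := ⟨a, hOX ha⟩
  have hconjK : ax * s * ax⁻¹ ∈ K := (hcl s ax).trans hker
  have hfin : η ((⟨⁅a, h⁆, hOX (commutator_mem_of_normal ha h)⟩ : X)) = η 1 := by
    have : ax * s * ax⁻¹ * s⁻¹ ∈ K := mul_mem hconjK (inv_mem hsK)
    exact this
  have := (hres ⟨⟨⁅a, h⁆, hOX (commutator_mem_of_normal ha h)⟩, commutator_mem_of_normal ha h⟩).symm.trans
    (hfin.trans (hres 1))
  simp only [map_one] at this
  exact this

theorem fpf_of_rec
    (hrec : ∀ h ∈ H, O ⊓ centralizer ({h} : Set G) ≠ O →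
      Kills (O ⊓ centralizer ({h} : Set G)) H ∧ Fpf (O ⊓ centralizer ({h} : Set G)) H) :
    Fpf O H := by
  intro c hc hcy
  by_cases hall : ∀ h ∈ H, O ⊓ centralizer ({h} : Set G) = O
  · have : (⁅O, H⁆ : Subgroup G) = ⊥ := by
      rw [eq_bot_iff, commutator_le]
      intro o ho y hy
      rw [mem_bot, commutatorElement_eq_one_iff_mul_comm]
      exact mem_centralizer_singleton_iff.1 ((hall y hy).ge ho).2
    rwa [this, mem_bot] at hc
  push Not at hall
  obtain ⟨h, hh, hA⟩ := hall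
  have hcO : c ∈ O := by
    have : (⁅O, H⁆ : Subgroup G) ≤ O :=
      commutator_le.2 fun o ho y _ => commutator_mem_of_normal ho y
    exact this hc
  set A := O ⊓ centralizer ({h} : Set G) with hAdef
  have hcA : c ∈ A := ⟨hcO, mem_centralizer_singleton_iff.2 (hcy h hh)⟩
  have hNA : (⁅A, H⁆ : Subgroup G) ≤ A := commutator_le.2 fun a ha y hy => by
    refine ⟨commutator_mem_of_normal ha.1 y, mem_centralizer_singleton_iff.2 ?_⟩
    have h1 : Commute a h := mem_centralizer_singleton_iff.1 ha.2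
    have h2 : Commute y h := hS.comm y hy h hh
    exact (((h1.mul_left h2).mul_left h1.inv_left).mul_left h2.inv_left).eq
  haveI : ((⁅A, H⁆ : Subgroup G).subgroupOf A).Normal := by
    refine (Subgroup.normal_subgroupOf_iff_le_normalizer hNA).2 fun x hx =>
      mem_normalizer_of_conj_le fun z hz => ?_
    have hle : (⁅A, H⁆ : Subgroup G) ≤ (⁅A, H⁆ : Subgroup G).comap (MulAut.conj x).toMonoidHom :=
      commutator_le.2 fun a ha y hy => by
        show x * ⁅a, y⁆ * x⁻¹ ∈ (⁅A, H⁆ : Subgroup G)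
        rw [show x * ⁅a, y⁆ * x⁻¹ = ⁅x * a, y⁆ * ⁅x, y⁆⁻¹ by
          simp [commutatorElement_def, mul_assoc]]
        exact mul_mem (commutator_mem_commutator (mul_mem hx ha) hy)
          (inv_mem (commutator_mem_commutator hx hy))
    exact hle hz
  obtain ⟨hkillA, hfpfA⟩ := hrec h hh hA
  suffices hmem : c ∈ (⁅A, H⁆ : Subgroup G) from hfpfA c hmem hcy
  set N := (⁅A, H⁆ : Subgroup G).subgroupOf A
  suffices hq : (QuotientGroup.mk (⟨c, hcA⟩ : A) : A ⧸ N) = 1 from
    (QuotientGroup.eq_one_iff (N := N) (⟨c, hcA⟩ : A)).1 hq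
  haveI : Fintype (A ⧸ N) := Fintype.ofFinite _
  letI := CfsgLib.Block.Chr.irrFintype (G := A ⧸ N)
  classical
  by_contra hne
  have hcol := CfsgLib.Block.Chr.column_orth (((⟨c, hcA⟩ : A) : A ⧸ N)) 1
  rw [if_neg (fun hc' => hne (isConj_one_left.1 hc'))] at hcol
  have hsame : ∀ μ : Cfsg.IrrCharacter (A ⧸ N),
      (μ : A ⧸ N → ℂ) ((⟨c, hcA⟩ : A) : A ⧸ N) = (μ : A ⧸ N → ℂ) 1 := by
    intro μ
    obtain ⟨X, hX⟩ : ∃ X, X = O ⊔ zpowers h := ⟨_, rfl⟩
    have hOX : O ≤ X := hX ▸ le_sup_left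
    have hAX : A ≤ X := inf_le_left.trans hOX
    obtain ⟨hs, hcop⟩ := copSetup hh hO hS hX
    haveI : Fintype X := Fintype.ofFinite _
    haveI : Fintype ↥(O.subgroupOf X) := Fintype.ofFinite _
    haveI : Fintype ↥(A.subgroupOf X) := Fintype.ofFinite _
    haveI : NeZero (orderOf h) := ⟨(orderOf_pos h).ne'⟩
    let eA : ↥(A.subgroupOf X) ≃* A := Subgroup.subgroupOfEquivOfLe hAX
    let π : ↥(A.subgroupOf X) →* A ⧸ N := (QuotientGroup.mk' N).comp eA.toMonoidHom
    let β : Cfsg.IrrCharacter ↥(A.subgroupOf X) := ⟨fun x => (μ : A ⧸ N → ℂ) (π x),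
      IsIrrCharacter.comp_surjective μ.2 π ((QuotientGroup.mk'_surjective N).comp eA.surjective)⟩
    obtain ⟨η, ε, hη, -, hε, hval⟩ := hcop.exists_of_char β
    set s : X := ⟨h, hs⟩
    have hval1 : ∀ x : ↥(A.subgroupOf X), η ((x : X) * s) = (ε : ℂ) * (μ : A ⧸ N → ℂ) (π x) :=
      fun x => by simpa using hval x 1 (Nat.coprime_one_left _)
    have hinv : ∀ y ∈ H, InvBy O y fun k : O => η ⟨k, hOX k.2⟩ := by
      intro y hy k k' hkk
      have hfix : y * h * y⁻¹ = h := by rw [hS.comm y hy h hh, mul_inv_cancel_right]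
      obtain ⟨α, hα, hαval⟩ := exists_conj_hom hh hy hS hX
      have heq : (fun x => η (α x)) = η := by
        refine hcop.eq_of_value (β := β) (isCan_comp hη hα hαval hfix) hη hε hε (fun x => ?_) hval1
        have hx : y * ((x : X) : G) * y⁻¹ ∈ A := by
          have h2 : ⁅((x : X) : G), y⁆⁻¹ * ((x : X) : G) = y * ((x : X) : G) * y⁻¹ := by
            simp [commutatorElement_def, mul_assoc]
          rw [← h2]
          exact mul_mem (inv_mem (hNA (commutator_mem_commutator x.2 hy))) x.2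
        show η (α (x * s)) = _
        rw [map_mul, show α s = s from Subtype.ext ((hαval _).trans hfix),
          show α (x : X) = ((⟨⟨_, hAX hx⟩, hx⟩ : ↥(A.subgroupOf X)) : X) from Subtype.ext (hαval _),
          hval1]
        refine congrArg (fun t => (ε : ℂ) * (μ : A ⧸ N → ℂ) t) ?_
        refine (QuotientGroup.eq (s := N)).2 ?_
        show _ ∈ (⁅A, H⁆ : Subgroup G)
        show (y * ((x : X) : G) * y⁻¹)⁻¹ * ((x : X) : G) ∈ _
        rw [show (y * ((x : X) : G) * y⁻¹)⁻¹ * ((x : X) : G) =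
          ⁅((x : X) : G)⁻¹, y⁆⁻¹ by simp [commutatorElement_def, mul_assoc]]
        exact inv_mem (commutator_mem_commutator (inv_mem x.2) hy)
      have h1 := congrFun heq ⟨k, hOX k.2⟩
      rw [show α ⟨k, hOX k.2⟩ = ⟨k', hOX k'.2⟩ from Subtype.ext ((hαval _).trans hkk.symm)] at h1
      exact h1
    have hirr : Cfsg.IsIrrCharacter O fun k : O => η ⟨k, hOX k.2⟩ :=
      IsIrrCharacter.comp_surjective hη.res (Subgroup.subgroupOfEquivOfLe hOX).symm.toMonoidHom
        (Subgroup.subgroupOfEquivOfLe hOX).symm.surjective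
    have hθ := kills_of_rec hS hp2 hO htop (fun h' hh' hne' => (hrec h' hh' hne').1)
      _ hirr hinv ⟨c, hcO⟩ hc
    have hcs : η ((⟨c, hAX hcA⟩ : X) * s) = η s :=
      IsCharacter.apply_mul_of_apply_eq (IsIrrCharacter.isCharacter hη.irr) hθ s
    have h1 := hval1 1
    rw [OneMemClass.coe_one, one_mul, map_one, ← hcs] at h1
    have h2 := (hval1 ⟨⟨c, hAX hcA⟩, hcA⟩).symm.trans h1
    exact mul_left_cancel₀ (by rcases hε with rfl | rfl <;> norm_num) h2
  simp only [hsame] at hcol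
  have hre := congrArg Complex.re hcol
  rw [Complex.re_sum, Complex.zero_re] at hre
  have hpos : 0 < ∑ μ : Cfsg.IrrCharacter (A ⧸ N),
      ((μ : A ⧸ N → ℂ) 1 * conj ((μ : A ⧸ N → ℂ) 1)).re := by
    haveI : Nonempty (Cfsg.IrrCharacter (A ⧸ N)) := ⟨⟨fun _ => 1, isIrrCharacter_one⟩⟩
    refine Finset.sum_pos (fun μ _ => ?_) Finset.univ_nonempty
    rw [Complex.mul_conj, Complex.ofReal_re]
    exact Complex.normSq_pos.2 (IsIrrCharacter.apply_one_ne_zero μ.2)
  exact hpos.ne' hre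

end Odd

/-- The invariant characters are trivial on the commutator, which has no fixed points. -/
theorem kills_and_fpf (hp2 : p ≠ 2) : ∀ (n : ℕ) {G : Type u} [Group G] [Finite G] {H : Subgroup G},
    Setup p H → ∀ {O : Subgroup G}, O.Normal → (Nat.card O).Coprime p → H ⊔ O = ⊤ →
      Nat.card O = n → Kills O H ∧ Fpf O H := by
  intro n
  induction n using Nat.strong_induction_on with
  | _ n ih =>
  intro G _ _ H hS O hOn hO htop hn
  have hrec : ∀ h ∈ H, O ⊓ centralizer ({h} : Set G) ≠ O →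
      Kills (O ⊓ centralizer ({h} : Set G)) H ∧ Fpf (O ⊓ centralizer ({h} : Set G)) H := by
    intro h hh hne
    have hlt : Nat.card ↥(O ⊓ centralizer ({h} : Set G)) < n :=
      hn ▸ CfsgLib.Solvable.card_lt_of_lt (lt_of_le_of_ne inf_le_left hne)
    refine transfer hS (fun y hy => mem_normalizer_of_conj_le fun x hx => ?_)
      (coprime_of_le inf_le_left hO)
      fun Y O' hn' hc htop' hcard hS' => ih _ hlt hS' hn' hc htop' hcard
    refine ⟨hOn.conj_mem x hx.1 y, mem_centralizer_singleton_iff.2 ?_⟩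
    have h1 : Commute x h := mem_centralizer_singleton_iff.1 hx.2
    have h2 : Commute y h := hS.comm y hy h hh
    exact ((h2.mul_left h1).mul_left h2.inv_left).eq
  exact ⟨kills_of_rec hS hp2 hO htop fun h hh hne => (hrec h hh hne).1,
    fpf_of_rec hS hp2 hO htop hrec⟩

/-- In the presence of a normal complement the normal closure meets the normalizer in `H`. -/
theorem normalClosure_inf_normalizer (hS : Setup p H) (hp2 : p ≠ 2)
    (htop : normalizer (H : Set G) ⊔ Cfsg.pPrimeCore p G = ⊤) :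
    normalClosure (H : Set G) ⊓ normalizer (H : Set G) = H := by
  refine le_antisymm ?_ (le_inf Subgroup.le_normalClosure Subgroup.le_normalizer)
  set O := Cfsg.pPrimeCore p G
  haveI := CfsgLib.Solvable.pPrimeCore_normal (G := G) p
  have hO : (Nat.card O).Coprime p := CfsgLib.Solvable.coprime_card_pPrimeCore p
  have hHO : H ≤ normalizer (O : Set G) := le_normalizer_of_normal
  obtain ⟨-, hfpf⟩ := transfer hS hHO hO fun Y O' hn' hc htop' hcard hS' =>
    kills_and_fpf hp2 _ hS' hn' hc htop' rfl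
  set D := (⁅O, H⁆ : Subgroup G)
  have hDn : H ≤ normalizer (D : Set G) := fun y hy => mem_normalizer_of_conj_le fun z hz => by
    have hle : D ≤ D.comap (MulAut.conj y).toMonoidHom := commutator_le.2 fun o ho y' hy' => by
      show y * ⁅o, y'⁆ * y⁻¹ ∈ D
      rw [← MulAut.conj_apply, map_commutatorElement, MulAut.conj_apply, MulAut.conj_apply,
        hS.comm y hy y' hy', mul_inv_cancel_right]
      exact commutator_mem_commutator (Subgroup.Normal.conj_mem inferInstance o ho y) hy'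
    exact hle hz
  have hle : normalClosure (H : Set G) ≤ H ⊔ D := by
    rw [normalClosure, Subgroup.closure_le]
    intro z hz
    obtain ⟨x, hx, hxz⟩ := Group.mem_conjugatesOfSet_iff.1 hz
    obtain ⟨g, rfl⟩ := isConj_iff.1 hxz
    obtain ⟨o, ho, n, hn, rfl⟩ := Subgroup.mem_sup_of_normal_left.1
      (show g ∈ O ⊔ normalizer (H : Set G) by rw [sup_comm, htop]; exact mem_top g)
    have hx' : n * x * n⁻¹ ∈ H := (mem_normalizer_iff.1 hn x).1 hx
    rw [SetLike.mem_coe, show o * n * x * (o * n)⁻¹ = ⁅o, n * x * n⁻¹⁆ * (n * x * n⁻¹) by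
      simp [commutatorElement_def, mul_assoc]]
    exact mul_mem (mem_sup_right (commutator_mem_commutator ho hx')) (mem_sup_left hx')
  rintro z ⟨hz, hzn⟩
  obtain ⟨x, hx, d, hd, rfl⟩ := (CfsgLib.Solvable.mem_sup_of_le_normalizer hDn).1 (hle hz)
  have hdn : d ∈ normalizer (H : Set G) := by
    have := mul_mem (inv_mem (Subgroup.le_normalizer hx)) hzn
    rwa [inv_mul_cancel_left] at this
  have hDO : D ≤ O := commutator_le.2 fun o ho y _ => commutator_mem_of_normal ho y
  have hd1 : d = 1 := hfpf d hd fun y hy => by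
    rw [← commutatorElement_eq_one_iff_mul_comm]
    have h1 : ⁅d, y⁆ ∈ H ⊓ O := mem_inf.2 ⟨H.mul_mem ((mem_normalizer_iff.1 hdn y).1 hy)
      (H.inv_mem hy), commutator_mem_of_normal (hDO hd) y⟩
    rwa [disjoint_of_coprime hS.pg hO, mem_bot] at h1
  rwa [hd1, mul_one]

end CfsgLib.ExtClosed
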