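import Cfsg.Agent.ExtClosed.Bound
import Cfsg.Agent.Blocks.TraceFormula
import Cfsg.Agent.Blocks.Section
import Cfsg.Agent.Char.LinearTwist
import Cfsg.Agent.S3021
import Mathlib.GroupTheory.Transfer

/-!
# Summing the bound over the principal block
-/

set_option autoImplicit false
set_option linter.unusedSectionVars false
set_option linter.style.haveILetI false

namespace CfsgLib.ExtClosed

open Subgroup Finset CfsgLib.Block CfsgLib.Block.Chr CfsgLib.Char
open scoped ComplexConjugate commutatorElement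

universe u

variable {G : Type u} [Group G] [Fintype G] [Fintype (Cfsg.IrrCharacter G)]
  {M : Ideal Cfsg.AlgInt} [M.IsPrime] {p : ℕ} [hp : Fact p.Prime] {H : Subgroup G}

open Classical in
/-- The characters of the principal block. -/
noncomputable def pblock (M : Ideal Cfsg.AlgInt) (G : Type u) [Group G]
    [Fintype (Cfsg.IrrCharacter G)] : Finset (Cfsg.IrrCharacter G) :=
  univ.filter (· ∈ Cfsg.principalBlock M G)

theorem mem_pblock {χ : Cfsg.IrrCharacter G} :
    χ ∈ pblock M G ↔ χ ∈ Cfsg.principalBlock M G := by simp [pblock]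

/-- The square sum of a column of the principal block. -/
noncomputable def colsq (M : Ideal Cfsg.AlgInt) (w : G) : ℝ :=
  ∑ χ ∈ pblock M G, ‖(χ : G → ℂ) w‖ ^ 2

theorem colsq_eq_of_conj (m w : G) : colsq M (m * w * m⁻¹) = colsq M w := by
  refine Finset.sum_congr rfl fun χ _ => ?_
  rw [isClassFunction_irr χ w m]

theorem colsq_nonneg (w : G) : 0 ≤ colsq M w := Finset.sum_nonneg fun χ _ => sq_nonneg _

theorem orderOf_eq_pow (hS : Setup p H) {w : G} (hw : w ∈ H) : ∃ k : ℕ, orderOf w = p ^ k := by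
  obtain ⟨k, hk⟩ := IsPGroup.iff_orderOf.1 hS.pg ⟨w, hw⟩
  exact ⟨k, by rwa [Subgroup.orderOf_mk] at hk⟩

theorem dvd_orderOf (hS : Setup p H) {w : G} (hw : w ∈ H) (hw1 : w ≠ 1) : p ∣ orderOf w := by
  obtain ⟨k, hk⟩ := orderOf_eq_pow hS hw
  rw [hk]
  rcases k with _ | k
  · exact absurd (orderOf_eq_one_iff.1 (by simpa using hk)) hw1
  · exact dvd_pow_self p (Nat.succ_ne_zero k)

/-- A column of the principal block is at least as long as every `p`-subgroup centralizing it. -/
theorem card_le_colsq (hM : Cfsg.IsPModular p M) {w : G} {k : ℕ} (hw : orderOf w = p ^ k)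
    {P : Subgroup G} (hP : IsPGroup p P) (hPC : P ≤ centralizer ({w} : Set G)) :
    (Nat.card P : ℝ) ≤ colsq M w := by
  classical
  haveI : Fintype (centralizer ({w} : Set G)) := Fintype.ofFinite _
  letI := irrFintype (G := centralizer ({w} : Set G))
  haveI : Fintype P := Fintype.ofFinite _
  set C := centralizer ({w} : Set G)
  have hker := principal_section_kernel hM hw (1 : C) 1 (by rw [orderOf_one]; exact hM.1.not_dvd_one)
    (by rw [orderOf_one]; exact hM.1.not_dvd_one)
  simp only [OneMemClass.coe_one, mul_one] at hker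
  set B : Finset (Cfsg.IrrCharacter C) := univ.filter (· ∈ Cfsg.principalBlock M C) with hB
  let ι : P → C := fun x => ⟨x, hPC x.2⟩
  have hι : ∀ x y : P, (ι y)⁻¹ * ι x = ι (y⁻¹ * x) := fun x y => Subtype.ext (by simp [ι])
  choose s hs0 hs using fun φ : Cfsg.IrrCharacter C =>
    gram_nonneg φ (fun _ : P => (1 : ℂ)) ι
  have hs' : ∀ φ : Cfsg.IrrCharacter C,
      (Nat.card P : ℂ) * ∑ x : P, (φ : C → ℂ) (ι x) = (s φ : ℂ) := fun φ => by
    rw [← hs φ, Finset.sum_comm, Nat.card_eq_fintype_card, ← nsmul_eq_mul, ← Finset.card_univ,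
      ← Finset.sum_const]
    refine Finset.sum_congr rfl fun y _ => Fintype.sum_equiv (Equiv.mulLeft y) _ _ fun x => ?_
    simp [hι]
  have hmain : ∑ φ ∈ B, (φ : C → ℂ) 1 * (s φ : ℂ) = (Nat.card P : ℂ) * (colsq M w : ℂ) := by
    simp only [← hs', mul_left_comm _ (Nat.card P : ℂ), Finset.mul_sum]
    rw [Finset.sum_comm, Finset.sum_eq_single (1 : P) (fun x _ hx => ?_) (by simp)]
    · rw [colsq, Complex.ofReal_sum, ← Finset.mul_sum]
      congr 1
      calc ∑ φ ∈ B, (φ : C → ℂ) 1 * (φ : C → ℂ) (ι 1)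
          = ∑ φ ∈ B, (φ : C → ℂ) 1 * conj ((φ : C → ℂ) 1) := by
            refine Finset.sum_congr rfl fun φ _ => ?_
            rw [conj_irr, inv_one]; rfl
        _ = _ := by
            rw [hB, ← hker]
            refine Finset.sum_congr (by unfold pblock; congr) fun χ _ => ?_
            rw [Complex.mul_conj', Complex.ofReal_pow]
    · rw [← Finset.mul_sum]
      refine mul_eq_zero_of_right _ ?_
      have hx' : p ∣ orderOf (ι x)⁻¹ := by
        obtain ⟨j, hj⟩ := IsPGroup.iff_orderOf.1 hP x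
        rw [orderOf_inv, show orderOf (ι x) = orderOf x by
          rw [← Subgroup.orderOf_coe (ι x), ← Subgroup.orderOf_coe x], hj]
        rcases j with _ | j
        · exact absurd (orderOf_eq_one_iff.1 (by simpa using hj)) hx
        · exact dvd_pow_self p (Nat.succ_ne_zero j)
      have := weak_orth hM (isIntClass_blockCoeff (isPBlock_principalBlock (M := M) (G := C)))
        (g := (1 : C)) (by rw [orderOf_one]; exact hM.1.not_dvd_one) hx'
      simpa [conj_irr] using this
  have hP0 : (0 : ℝ) < Nat.card P := Nat.cast_pos.2 Nat.card_pos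
  have hone : s (oneIrr C) = (Nat.card P : ℝ) * Nat.card P := by
    have := hs' (oneIrr C)
    simp only [oneIrr_apply, Finset.sum_const, Finset.card_univ, nsmul_eq_mul, mul_one,
      ← Nat.card_eq_fintype_card] at this
    exact_mod_cast this.symm
  have hreal : ∑ φ ∈ B, ((φ : C → ℂ) 1).re * s φ = (Nat.card P : ℝ) * colsq M w := by
    have := congrArg Complex.re hmain
    rw [Complex.re_sum, ← Complex.ofReal_natCast, ← Complex.ofReal_mul, Complex.ofReal_re] at this
    rw [← this]
    refine Finset.sum_congr rfl fun φ _ => ?_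
    rw [Complex.mul_re, Complex.ofReal_re, Complex.ofReal_im, mul_zero, sub_zero]
  have h1 : ((oneIrr C : C → ℂ) 1).re * s (oneIrr C) ≤ ∑ φ ∈ B, ((φ : C → ℂ) 1).re * s φ :=
    Finset.single_le_sum (f := fun φ : Cfsg.IrrCharacter C => ((φ : C → ℂ) 1).re * s φ)
      (fun φ _ => mul_nonneg (by rw [(irr_one φ).1]; simp) (hs0 φ))
      (Finset.mem_filter.2 ⟨Finset.mem_univ _, oneIrr_mem_principalBlock⟩)
  rw [hreal, oneIrr_apply, Complex.one_re, one_mul, hone] at h1
  exact le_of_mul_le_mul_left h1 hP0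

variable [Fintype H]

open Classical in
/-- The orbit of an element of `H` under the normalizer. -/
noncomputable def orb (H : Subgroup G) [Fintype H] (k : H) : Finset H :=
  univ.filter fun x => ∃ m : normalizer (H : Set G), cj m k = x

theorem mem_orb {k x : H} : x ∈ orb H k ↔ ∃ m : normalizer (H : Set G), cj m k = x := by
  simp [orb]

theorem self_mem_orb (k : H) : k ∈ orb H k := mem_orb.2 ⟨1, Subtype.ext (by simp)⟩

theorem orb_eq {k x : H} (h : x ∈ orb H k) : orb H x = orb H k := by
  obtain ⟨m, rfl⟩ := mem_orb.1 h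
  ext y
  simp only [mem_orb]
  constructor
  · rintro ⟨m', rfl⟩; exact ⟨m' * m, Subtype.ext (by simp [mul_assoc])⟩
  · rintro ⟨m', rfl⟩; exact ⟨m' * m⁻¹, Subtype.ext (by simp [mul_assoc])⟩

theorem ne_one_of_mem_orb {k x : H} (hk : k ≠ 1) (h : x ∈ orb H k) : x ≠ 1 := by
  rintro rfl
  obtain ⟨m, hm⟩ := mem_orb.1 (orb_eq h ▸ self_mem_orb k)
  exact hk (by rw [← hm, map_one])

theorem colsq_orb {k x : H} (h : x ∈ orb H k) : colsq M (x : G) = colsq M (k : G) := by
  obtain ⟨m, rfl⟩ := mem_orb.1 h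
  exact colsq_eq_of_conj _ _

theorem mem_subgroupOf_commutator {k x : H} (h : x ∈ orb H k) :
    k⁻¹ * x ∈ (commutator G).subgroupOf H := by
  obtain ⟨m, rfl⟩ := mem_orb.1 h
  rw [mem_subgroupOf, commutator_def, show ((k⁻¹ * cj m k : H) : G) =
    ⁅(k : G)⁻¹, (m : G)⁆ by simp [commutatorElement_def, mul_assoc]]
  exact commutator_mem_commutator (mem_top _) (mem_top _)

theorem cj_mon_mul (hS : Setup p H) {t : G} (ht : t ∈ normalizer (H : Set G)) (g : G) (k : H) :
    cj (hS.mon (t * g)) k = cj ⟨t, ht⟩ (cj (hS.mon g) k) := by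
  have hpair : ∀ y ∈ pair H g, t * y * t⁻¹ ∈ pair H (t * g) := by
    have hle : pair H g ≤ (pair H (t * g)).comap (MulAut.conj t).toMonoidHom := by
      refine sup_le (fun y hy => le_pair _ ((mem_normalizer_iff.1 ht y).1 hy)) ?_
      rintro _ ⟨y, hy, rfl⟩
      show t * (g * y * g⁻¹) * t⁻¹ ∈ pair H (t * g)
      rw [show t * (g * y * g⁻¹) * t⁻¹ = t * g * y * (t * g)⁻¹ by group]
      exact conj_mem_pair hy _
    exact fun y hy => hle hy
  refine Subtype.ext (hS.proj_unique (g := t * g) (y := t * g * k * (t * g)⁻¹) (SetLike.coe_mem _)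
    (SetLike.coe_mem _) (hS.mon_spec _ _) ?_)
  rw [show ((cj ⟨t, ht⟩ (cj (hS.mon g) k) : H) : G)⁻¹ * (t * g * k * (t * g)⁻¹) =
    t * hS.rest g k * t⁻¹ by simp [Setup.rest, mul_assoc]]
  refine hS.mem_core_of_coprime (hpair _ (core_le g (hS.mon_spec g k))) ?_
  rw [show t * hS.rest g k * t⁻¹ = MulAut.conj t (hS.rest g k) from rfl, MulEquiv.orderOf_eq]
  exact fun h => (Nat.Prime.coprime_iff_not_dvd hp.out).1 (card_core_coprime g).symm
    (h.trans (Subgroup.orderOf_dvd_natCard _ (hS.mon_spec g k)))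

open Classical in
/-- The elements carrying `k` to the members of a set of its orbit are equidistributed. -/
theorem card_filter_mon (hS : Setup p H) (k : H) (P : H → Prop) :
    (univ.filter fun g : G => P (cj (hS.mon g) k)).card * (orb H k).card =
      Fintype.card G * ((orb H k).filter P).card := by
  set F : H → ℕ := fun x => (univ.filter fun g : G => cj (hS.mon g) k = x).card with hF
  have hmem : ∀ g : G, cj (hS.mon g) k ∈ orb H k := fun g => mem_orb.2 ⟨_, rfl⟩
  have hle : ∀ (m : normalizer (H : Set G)) (x : H), F x ≤ F (cj m x) := fun m x => by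
    refine Finset.card_le_card_of_injOn (fun g => (m : G) * g) (fun g hg => ?_)
      (mul_right_injective _).injOn
    simp only [coe_filter, Finset.mem_univ, true_and, Set.mem_ofPred_eq] at hg ⊢
    rw [cj_mon_mul hS m.2, hg]
  have hconst : ∀ x ∈ orb H k, F x = F k := fun x hx => by
    obtain ⟨m, rfl⟩ := mem_orb.1 hx
    refine le_antisymm ((hle m⁻¹ _).trans (le_of_eq (congrArg F (Subtype.ext ?_)))) (hle m k)
    simp [mul_assoc]
  have h1 : Fintype.card G = (orb H k).card * F k := by
    rw [← Finset.card_univ, Finset.card_eq_sum_card_fiberwise (fun g _ => hmem g),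
      Finset.sum_congr rfl fun x hx => hconst x hx, Finset.sum_const, smul_eq_mul]
  have h2 : (univ.filter fun g : G => P (cj (hS.mon g) k)).card = ((orb H k).filter P).card * F k := by
    rw [Finset.card_eq_sum_card_fiberwise (f := fun g : G => cj (hS.mon g) k)
      (t := (orb H k).filter P) (fun g hg => ?_), Finset.sum_congr rfl fun x hx => ?_,
      Finset.sum_const, smul_eq_mul]
    · rw [← hconst x (Finset.mem_filter.1 hx).1, hF, Finset.filter_filter]
      congr 1
      ext g
      simp only [Finset.mem_filter, Finset.mem_univ, true_and, and_iff_right_iff_imp]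
      exact fun h => h.symm ▸ (Finset.mem_filter.1 hx).2
    · simp only [coe_filter, Finset.mem_univ, true_and, Set.mem_ofPred_eq] at hg
      simp [hg, hmem g]
  rw [h1, h2]; ring

variable (hM : Cfsg.IsPModular p M) (hS : Setup p H)
  (hC : ∀ χ ∈ Cfsg.principalBlock M G, Const p H χ)
include hM hS hC

open Classical in
/-- The threefold products of the columns of the principal block at elements of `H`. -/
theorem sum_triple (h k : H) (hhk : h * k ≠ 1) :
    ∑ χ ∈ pblock M G,
        (χ : G → ℂ) h * (χ : G → ℂ) k * conj ((χ : G → ℂ) (h * k : H)) / (χ : G → ℂ) 1 =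
      ((colsq M ((h * k : H) : G) *
        ((orb H k).filter fun x => h * x ∈ orb H (h * k)).card / (orb H k).card : ℝ) : ℂ) := by
  have hG : (Fintype.card G : ℂ) ≠ 0 := by exact_mod_cast Fintype.card_ne_zero
  have hn : ((orb H k).card : ℂ) ≠ 0 := by
    exact_mod_cast (Finset.card_pos.2 ⟨k, self_mem_orb k⟩).ne'
  have hB := isIntClass_blockCoeff (isPBlock_principalBlock (M := M) (G := G))
  have hg : ∀ g : G, ∑ χ ∈ pblock M G,
      (χ : G → ℂ) (h * (g * k * g⁻¹)) * conj ((χ : G → ℂ) (h * k : H)) =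
      if h * cj (hS.mon g) k ∈ orb H (h * k) then (colsq M ((h * k : H) : G) : ℂ) else 0 := by
    intro g
    set x := h * cj (hS.mon g) k with hx
    have hv : hS.rest g k ∈ core p H g := hS.mon_spec g k
    have hxv : (h : G) * (g * k * g⁻¹) = (x : G) * hS.rest g k := by
      rw [hx, Subgroup.coe_mul, ← hS.mul_rest]; group
    by_cases hx1 : x = 1
    · rw [if_neg fun h' => ne_one_of_mem_orb hhk h' hx1, hxv, hx1, OneMemClass.coe_one, one_mul]
      refine weak_orth hM hB (fun h' => ?_) (dvd_orderOf hS (SetLike.coe_mem _) fun h' =>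
        hhk (OneMemClass.coe_eq_one.1 h'))
      exact (Nat.Prime.coprime_iff_not_dvd hp.out).1 (card_core_coprime g).symm
        (h'.trans (Subgroup.orderOf_dvd_natCard _ hv))
    have hval : ∀ χ ∈ pblock M G, (χ : G → ℂ) (h * (g * k * g⁻¹)) = (χ : G → ℂ) x := fun χ hχ => by
      rw [hxv]
      exact hC χ (mem_pblock.1 hχ) x x.2 (fun h' => hx1 (OneMemClass.coe_eq_one.1 h')) g _ hv
    rw [Finset.sum_congr rfl fun χ hχ => by rw [hval χ hχ]]
    split_ifs with hxo
    · obtain ⟨m, hm⟩ := mem_orb.1 hxo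
      rw [colsq, Complex.ofReal_sum]
      refine Finset.sum_congr rfl fun χ _ => ?_
      rw [← hm, coe_cj, isClassFunction_irr χ _ (m : G), Complex.mul_conj', Complex.ofReal_pow]
    · have hnc : ¬ IsConj (x : G) ((h * k : H) : G) := fun hc => by
        obtain ⟨t, ht⟩ := isConj_iff.1 hc
        obtain ⟨n, hn', hne⟩ := hS.exists_conj_normalizer x.2 (SetLike.coe_mem _) ht
        refine hxo (mem_orb.2 ⟨⟨n, hn'⟩⁻¹, Subtype.ext ?_⟩)
        rw [coe_cj, ← hne]
        simp [mul_assoc]
      obtain ⟨a, ha⟩ := orderOf_eq_pow hS x.2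
      obtain ⟨b, hb⟩ := orderOf_eq_pow hS (SetLike.coe_mem (h * k))
      exact block_orth hM hB (x := (x : G)) (y := ((h * k : H) : G))
        ⟨1, mul_one _, Commute.one_right _, ⟨a, ha⟩, by rw [orderOf_one]; exact hp.out.not_dvd_one⟩
        ⟨1, mul_one _, Commute.one_right _, ⟨b, hb⟩, by rw [orderOf_one]; exact hp.out.not_dvd_one⟩
        hnc
  have hsum : ∑ g : G, ∑ χ ∈ pblock M G,
      (χ : G → ℂ) (h * (g * k * g⁻¹)) * conj ((χ : G → ℂ) (h * k : H)) =
      (Fintype.card G : ℂ) * ∑ χ ∈ pblock M G,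
        (χ : G → ℂ) h * (χ : G → ℂ) k * conj ((χ : G → ℂ) (h * k : H)) / (χ : G → ℂ) 1 := by
    rw [Finset.sum_comm, Finset.mul_sum]
    refine Finset.sum_congr rfl fun χ _ => ?_
    rw [← Finset.sum_mul, mul_div_assoc', eq_div_iff (irr_one_ne_zero χ), mul_right_comm,
      sum_conj_mul, Nat.card_eq_fintype_card]
    ring
  simp only [hg, ← Finset.sum_filter, Finset.sum_const, nsmul_eq_mul] at hsum
  have hcnt : ((univ.filter fun g : G => h * cj (hS.mon g) k ∈ orb H (h * k)).card : ℂ) *
      (orb H k).card = (Fintype.card G : ℂ) *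
        ((orb H k).filter fun x => h * x ∈ orb H (h * k)).card := by
    have h' := card_filter_mon hS k fun x => h * x ∈ orb H (h * k)
    norm_cast
    convert h'
  refine mul_left_cancel₀ (mul_ne_zero hG hn) ?_
  rw [mul_right_comm, ← hsum]
  push_cast
  field_simp
  linear_combination (colsq M ((h * k : H) : G) : ℂ) * hcnt

omit hM hS hC in
open Classical in
/-- The inequality of Cauchy and Schwarz on a union of orbits. -/
theorem sq_card_div_le (I U : Finset H) (hU : ∀ k ∈ I, orb H k ⊆ U) :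
    (I.card : ℝ) ^ 2 / U.card ≤
      ∑ k ∈ I, ((I.filter (· ∈ orb H k)).card : ℝ) / (orb H k).card := by
  rcases I.eq_empty_or_nonempty with rfl | hne
  · simp
  have hm : ∀ k ∈ I, (0 : ℝ) < (I.filter (· ∈ orb H k)).card := fun k hk =>
    Nat.cast_pos.2 (Finset.card_pos.2 ⟨k, Finset.mem_filter.2 ⟨hk, self_mem_orb k⟩⟩)
  have hn : ∀ k : H, (0 : ℝ) < (orb H k).card := fun k =>
    Nat.cast_pos.2 (Finset.card_pos.2 ⟨k, self_mem_orb k⟩)
  have h := Finset.sq_sum_div_le_sum_sq_div I (fun _ => (1 : ℝ))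
    (g := fun k => ((orb H k).card : ℝ) / (I.filter (· ∈ orb H k)).card)
    fun k hk => div_pos (hn k) (hm k hk)
  simp only [one_pow, one_div_div, Finset.sum_const, nsmul_eq_mul, mul_one] at h
  refine le_trans ?_ h
  refine div_le_div_of_nonneg_left (sq_nonneg _)
    (Finset.sum_pos (fun k hk => div_pos (hn k) (hm k hk)) hne) ?_
  calc ∑ k ∈ I, ((orb H k).card : ℝ) / (I.filter (· ∈ orb H k)).card
      = ∑ k ∈ I, ∑ x ∈ U, if x ∈ orb H k then 1 / ((I.filter (· ∈ orb H k)).card : ℝ) else 0 := by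
        refine Finset.sum_congr rfl fun k hk => ?_
        rw [Finset.sum_ite, Finset.sum_const_zero, add_zero, Finset.sum_const, nsmul_eq_mul,
          mul_one_div, show U.filter (· ∈ orb H k) = orb H k from by
            ext x; simpa using fun h => hU k hk h]
    _ ≤ ∑ x ∈ U, (1 : ℝ) := by
        rw [Finset.sum_comm]
        refine Finset.sum_le_sum fun x _ => ?_
        rw [← Finset.sum_filter]
        rcases (I.filter fun k => x ∈ orb H k).eq_empty_or_nonempty with h0 | h0
        · rw [h0, Finset.sum_empty]; exact zero_le_one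
        · refine le_of_eq ?_
          have he : ∀ k ∈ I.filter (fun k => x ∈ orb H k),
              I.filter (· ∈ orb H k) = I.filter fun k => x ∈ orb H k := fun k hk => by
            have hx := (Finset.mem_filter.1 hk).2
            refine Finset.filter_congr fun j _ => ⟨fun hj => ?_, fun hj => ?_⟩
            · rwa [orb_eq hj]
            · rw [← orb_eq hx, orb_eq hj]; exact self_mem_orb j
          rw [Finset.sum_congr rfl fun k hk => by rw [he k hk], Finset.sum_const, nsmul_eq_mul,
            mul_one_div, div_self (Nat.cast_ne_zero.2 (Finset.card_pos.2 h0).ne')]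
    _ = _ := by rw [Finset.sum_const, nsmul_eq_mul, mul_one]

omit hM hS hC in
/-- The number of characters of degree one. -/
theorem card_linear_le (hgen : normalClosure (H : Set G) = ⊤) :
    Nat.card {χ : Cfsg.IrrCharacter G // (χ : G → ℂ) 1 = 1} ≤
      ((commutator G).subgroupOf H).index := by
  haveI : Finite (H →* ℂˣ) := Finite.of_equiv _ (linearCharEquiv (G := H)).symm
  refine le_trans (Nat.card_congr (linearCharEquiv (G := G)).symm).le
    (le_trans (Nat.card_le_card_of_injective
      (fun lam : G →* ℂˣ => (⟨lam.comp H.subtype, fun x hx =>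
        Abelianization.commutator_subset_ker lam hx⟩ :
          {mu : H →* ℂˣ // ∀ x ∈ (commutator G).subgroupOf H, mu x = 1})) fun a b hab => ?_)
      (card_hom_trivial_le _))
  have hn : (MonoidHom.eqLocus a b).Normal := ⟨fun y hy g => by
    show a (g * y * g⁻¹) = b (g * y * g⁻¹)
    have hy' : a y = b y := hy
    rw [map_mul, map_mul, map_mul, map_mul, map_inv, map_inv, mul_inv_cancel_comm,
      mul_inv_cancel_comm, hy']⟩
  have hle : H ≤ MonoidHom.eqLocus a b := fun y hy =>
    DFunLike.congr_fun (congrArg Subtype.val hab) (⟨y, hy⟩ : H)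
  ext g
  exact congrArg Units.val ((normalClosure_le_normal (N := MonoidHom.eqLocus a b) hle)
    (hgen.symm ▸ mem_top g))

variable (hgen : normalClosure (H : Set G) = ⊤)
include hgen

omit hM hS hC hgen in
theorem conj_cubic_eq (χ : Cfsg.IrrCharacter G) : (χ : G → ℂ) 1 = (((χ : G → ℂ) 1).re : ℂ) := by
  rw [(irr_one χ).1]; simp

open Classical in
/-- The contribution of a character to the threefold sums. -/
theorem cubic_term_le {χ : Cfsg.IrrCharacter G} (hχ : χ ∈ pblock M G) :
    (∑ h : H, ∑ k : H, if h ≠ 1 ∧ k ≠ 1 ∧ h * k ≠ 1 then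
        (χ : G → ℂ) h * (χ : G → ℂ) k * conj ((χ : G → ℂ) (h * k : H)) / (χ : G → ℂ) 1 else 0).re ≤
      (∑ w ∈ (univ : Finset H).erase 1, ‖(χ : G → ℂ) w‖ ^ 2) +
        if (χ : G → ℂ) 1 = 1 then ((Nat.card H : ℝ) - 1) * ((Nat.card H : ℝ) - 3) else 0 := by
  haveI : Finite (H →* ℂˣ) := Finite.of_equiv _ (linearCharEquiv (G := H)).symm
  letI : Fintype (H →* ℂˣ) := Fintype.ofFinite _
  set f : H → ℂ := fun h => if h = 1 then 0 else (χ : G → ℂ) h with hf
  have hd0 : 0 < ((χ : G → ℂ) 1).re := by rw [(irr_one χ).1]; simpa using (irr_one χ).2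
  have hlhs : (∑ h : H, ∑ k : H, if h ≠ 1 ∧ k ≠ 1 ∧ h * k ≠ 1 then
      (χ : G → ℂ) h * (χ : G → ℂ) k * conj ((χ : G → ℂ) (h * k : H)) / (χ : G → ℂ) 1 else 0) =
      (∑ h : H, ∑ k : H, f h * f k * conj (f (h * k))) / (χ : G → ℂ) 1 := by
    simp only [Finset.sum_div]
    refine Finset.sum_congr rfl fun h _ => Finset.sum_congr rfl fun k _ => ?_
    simp only [hf]
    split_ifs <;> simp_all
  have hQ : ∑ h : H, ‖f h‖ ^ 2 = ∑ w ∈ (univ : Finset H).erase 1, ‖(χ : G → ℂ) w‖ ^ 2 := by
    rw [← Finset.add_sum_erase _ _ (Finset.mem_univ (1 : H))]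
    simp only [hf, if_true, norm_zero, zero_pow two_ne_zero, zero_add]
    exact Finset.sum_congr rfl fun w hw => by rw [if_neg (Finset.ne_of_mem_erase hw)]
  rw [hlhs, conj_cubic_eq χ, Complex.div_ofReal_re, ← conj_cubic_eq χ, ← hQ]
  split_ifs with hlin
  · obtain ⟨lam, hlam⟩ := IsCharacter.exists_hom (isCharacter_irr χ) hlin
    have hnorm : ∀ h : H, ‖(χ : G → ℂ) h‖ = 1 := fun h => by
      rw [hlam]; exact norm_hom lam _
    rw [hlin, Complex.one_re, div_one]
    have hb : ∀ h k : H, ‖f h * f k * conj (f (h * k))‖ =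
        if h ≠ 1 ∧ k ≠ 1 ∧ h * k ≠ 1 then 1 else 0 := fun h k => by
      rw [norm_mul, norm_mul, Complex.norm_conj]
      simp only [hf]
      split_ifs <;> simp_all
    refine ((Complex.re_le_norm _).trans ((norm_sum_le _ _).trans
      (Finset.sum_le_sum fun h _ => norm_sum_le _ _))).trans (le_of_eq ?_)
    simp only [hb]
    rw [hQ, ← Finset.add_sum_erase _ _ (Finset.mem_univ (1 : H))]
    simp only [ne_eq, not_true_eq_false, false_and, if_false, Finset.sum_const_zero, zero_add,
      hnorm, one_pow, Finset.sum_const, nsmul_eq_mul, mul_one]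
    rw [Finset.sum_congr rfl (g := fun _ => (Nat.card H : ℝ) - 2) fun h hh => ?_, Finset.sum_const,
      nsmul_eq_mul, Finset.card_erase_of_mem (Finset.mem_univ _), Finset.card_univ,
      Nat.cast_sub Fintype.card_pos, Nat.card_eq_fintype_card]
    · push_cast; ring
    · have hh1 := Finset.ne_of_mem_erase hh
      rw [← Finset.sum_filter, Finset.sum_const, nsmul_eq_mul, mul_one,
        show (univ.filter fun k : H => ¬h = 1 ∧ ¬k = 1 ∧ ¬h * k = 1) = ({1, h⁻¹} : Finset H)ᶜ by
          ext k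
          simp only [Finset.mem_filter, Finset.mem_univ, true_and, Finset.mem_compl,
            Finset.mem_insert, Finset.mem_singleton, not_or, mul_eq_one_iff_eq_inv', hh1,
            not_false_eq_true],
        Finset.card_compl, Finset.card_pair (fun h' => hh1 (inv_eq_one.1 h'.symm)),
        Nat.card_eq_fintype_card, Nat.cast_sub]
      · norm_num
      · rw [← Finset.card_pair (fun h' => hh1 (inv_eq_one.1 h'.symm) : (1 : H) ≠ h⁻¹)]
        exact Finset.card_le_univ _
  · rw [add_zero, div_le_iff₀ hd0, mul_comm]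
    exact cubic_le hS (hC χ (mem_pblock.1 hχ)) hgen hlin f fun h => rfl

open Classical in
/-- The threefold sums of the principal block are at most this large. -/
theorem sum_colsq_orb_le (hN : 3 ≤ Nat.card H) :
    ∑ h : H, ∑ k : H, (if h ≠ 1 ∧ k ≠ 1 ∧ h * k ≠ 1 then colsq M ((h * k : H) : G) *
        ((orb H k).filter fun x => h * x ∈ orb H (h * k)).card / (orb H k).card else 0) ≤
      (∑ w ∈ (univ : Finset H).erase 1, colsq M (w : G)) +
        ((commutator G).subgroupOf H).index * (((Nat.card H : ℝ) - 1) * ((Nat.card H : ℝ) - 3)) := by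
  have heq : ∑ h : H, ∑ k : H, (if h ≠ 1 ∧ k ≠ 1 ∧ h * k ≠ 1 then colsq M ((h * k : H) : G) *
      ((orb H k).filter fun x => h * x ∈ orb H (h * k)).card / (orb H k).card else 0) =
      ∑ χ ∈ pblock M G, (∑ h : H, ∑ k : H, if h ≠ 1 ∧ k ≠ 1 ∧ h * k ≠ 1 then
        (χ : G → ℂ) h * (χ : G → ℂ) k * conj ((χ : G → ℂ) (h * k : H)) / (χ : G → ℂ) 1 else 0).re := by
    simp only [Complex.re_sum]
    conv_rhs =>
      rw [Finset.sum_comm]
      enter [2, h]
      rw [Finset.sum_comm]
    refine Finset.sum_congr rfl fun h _ => Finset.sum_congr rfl fun k _ => ?_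
    split_ifs with hc
    · rw [← Complex.re_sum, sum_triple hM hS hC h k hc.2.2, Complex.ofReal_re]
    · simp
  rw [heq]
  refine (Finset.sum_le_sum fun χ hχ => cubic_term_le hM hS hC hgen hχ).trans ?_
  rw [Finset.sum_add_distrib, Finset.sum_comm]
  simp only [← colsq.eq_def]
  refine add_le_add le_rfl ?_
  rw [← Finset.sum_filter, Finset.sum_const, nsmul_eq_mul]
  have h3 : (3 : ℝ) ≤ Nat.card H := by exact_mod_cast hN
  refine mul_le_mul_of_nonneg_right (Nat.cast_le.2 (le_trans ?_ (card_linear_le hgen)))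
    (mul_nonneg (by linarith) (by linarith))
  rw [Nat.card_eq_fintype_card, Fintype.card_subtype]
  exact Finset.card_le_card (Finset.filter_subset_filter _ (Finset.subset_univ _))

open Classical in
/-- An element of `H` fixed by the normalizer forces the conclusion. -/
theorem eq_top_of_fixed (hN : 3 ≤ Nat.card H) {z : H} (hz : z ≠ 1)
    (hfix : ∀ m : normalizer (H : Set G), cj m z = z) :
    normalizer (H : Set G) ⊔ Cfsg.pPrimeCore p G = ⊤ := by
  haveI : Finite (H →* ℂˣ) := Finite.of_equiv _ (linearCharEquiv (G := H)).symm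
  letI : Fintype (H →* ℂˣ) := Fintype.ofFinite _
  set L := ((commutator G).subgroupOf H).index with hL
  have horb : ∀ (a : H), (∀ m : normalizer (H : Set G), cj m a = a) → ∀ k : H,
      (orb H k).filter (fun x => a * x ∈ orb H (a * k)) = orb H k := fun a ha k => by
    refine Finset.filter_true_of_mem fun x hx => ?_
    obtain ⟨m, rfl⟩ := mem_orb.1 hx
    exact mem_orb.2 ⟨m, by rw [map_mul, ha]⟩
  have hone : ∀ (a : H), (∀ m : normalizer (H : Set G), cj m a = a) → ∀ k : H, a * k ≠ 1 →
      ∑ χ ∈ pblock M G, (χ : G → ℂ) a * (χ : G → ℂ) k * conj ((χ : G → ℂ) (a * k : H)) /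
        (χ : G → ℂ) 1 = (colsq M ((a * k : H) : G) : ℂ) := fun a ha k hk => by
    rw [sum_triple hM hS hC a k hk, horb a ha k,
      mul_div_cancel_right₀ _ (Nat.cast_ne_zero.2 (Finset.card_pos.2 ⟨k, self_mem_orb k⟩).ne')]
  have hlow : ∀ k : H, k ≠ 1 → z * k ≠ 1 → colsq M (k : G) ≤ L := by
    intro k hk hzk
    have hzi : ∀ m : normalizer (H : Set G), cj m z⁻¹ = z⁻¹ := fun m => by rw [map_inv, hfix]
    have e1 := congrArg Complex.re (hone z hfix k hzk)
    have e2 := congrArg Complex.re (hone z⁻¹ hzi (z * k) (by rwa [inv_mul_cancel_left]))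
    rw [inv_mul_cancel_left, Complex.ofReal_re, Complex.re_sum] at e2
    rw [Complex.ofReal_re, Complex.re_sum] at e1
    have hle : ∀ χ ∈ pblock M G,
        ((χ : G → ℂ) z * (χ : G → ℂ) k * conj ((χ : G → ℂ) (z * k : H)) / (χ : G → ℂ) 1).re +
          ((χ : G → ℂ) (z⁻¹ : H) * (χ : G → ℂ) (z * k : H) * conj ((χ : G → ℂ) k) /
            (χ : G → ℂ) 1).re ≤
          ‖(χ : G → ℂ) z‖ / ((χ : G → ℂ) 1).re *
            (‖(χ : G → ℂ) k‖ ^ 2 + ‖(χ : G → ℂ) (z * k : H)‖ ^ 2) := by
      intro χ _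
      have hd0 : 0 < ((χ : G → ℂ) 1).re := by rw [(irr_one χ).1]; simpa using (irr_one χ).2
      have hnz : ‖(χ : G → ℂ) (z⁻¹ : H)‖ = ‖(χ : G → ℂ) z‖ := by
        rw [Subgroup.coe_inv, ← conj_irr, Complex.norm_conj]
      have hrw : ∀ a : ℂ, (a / (χ : G → ℂ) 1).re = a.re / ((χ : G → ℂ) 1).re := fun a => by
        conv_lhs => rw [conj_cubic_eq χ, Complex.div_ofReal_re]
      rw [hrw, hrw, ← add_div, div_mul_eq_mul_div]
      refine div_le_div_of_nonneg_right ?_ hd0.le
      refine le_trans (add_le_add (Complex.re_le_norm _) (Complex.re_le_norm _)) ?_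
      rw [norm_mul, norm_mul, norm_mul, norm_mul, Complex.norm_conj, Complex.norm_conj, hnz]
      nlinarith [mul_nonneg (norm_nonneg ((χ : G → ℂ) z))
        (sq_nonneg (‖(χ : G → ℂ) k‖ - ‖(χ : G → ℂ) (z * k : H)‖))]
    have hsum := Finset.sum_le_sum hle
    rw [Finset.sum_add_distrib, e1, e2] at hsum
    have hgap : ∀ χ ∈ pblock M G,
        0 ≤ (1 - ‖(χ : G → ℂ) z‖ / ((χ : G → ℂ) 1).re) *
          (‖(χ : G → ℂ) k‖ ^ 2 + ‖(χ : G → ℂ) (z * k : H)‖ ^ 2) := fun χ _ =>
      mul_nonneg (sub_nonneg.2 (div_le_one_of_le₀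
        (IsCharacter.norm_apply_le (isCharacter_irr χ) _) (by rw [(irr_one χ).1]; simp)))
        (add_nonneg (sq_nonneg _) (sq_nonneg _))
    have hzero : ∑ χ ∈ pblock M G, (1 - ‖(χ : G → ℂ) z‖ / ((χ : G → ℂ) 1).re) *
        (‖(χ : G → ℂ) k‖ ^ 2 + ‖(χ : G → ℂ) (z * k : H)‖ ^ 2) = 0 := by
      refine le_antisymm ?_ (Finset.sum_nonneg hgap)
      simp only [sub_mul, one_mul, Finset.sum_sub_distrib, Finset.sum_add_distrib]
      simp only [← colsq.eq_def]
      linarith
    have hvan : ∀ χ ∈ pblock M G, (χ : G → ℂ) 1 ≠ 1 → ‖(χ : G → ℂ) k‖ ^ 2 = 0 := by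
      intro χ hχ hne
      have hlt := norm_lt hS (hC χ (mem_pblock.1 hχ)) hgen hne z.2
        (fun h => hz (OneMemClass.coe_eq_one.1 h))
      have hd0 : 0 < ((χ : G → ℂ) 1).re := by rw [(irr_one χ).1]; simpa using (irr_one χ).2
      have h1 := ((mul_eq_zero.1 ((Finset.sum_eq_zero_iff_of_nonneg hgap).1 hzero χ hχ)).resolve_left
        (sub_pos.2 ((div_lt_one hd0).2 hlt)).ne')
      nlinarith [sq_nonneg ‖(χ : G → ℂ) k‖, sq_nonneg ‖(χ : G → ℂ) (z * k : H)‖]
    refine le_trans ?_ (Nat.cast_le.2 (card_linear_le hgen))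
    rw [Nat.card_eq_fintype_card, Fintype.card_subtype, ← mul_one ((Finset.card _ : ℕ) : ℝ),
      ← nsmul_eq_mul, ← Finset.sum_const, colsq,
      ← Finset.sum_filter_add_sum_filter_not (pblock M G) (fun χ : Cfsg.IrrCharacter G =>
        (χ : G → ℂ) 1 = 1), Finset.sum_eq_zero (s := (pblock M G).filter _)
        (fun χ hχ => hvan χ (Finset.mem_filter.1 hχ).1 (Finset.mem_filter.1 hχ).2), add_zero]
    refine (Finset.sum_le_sum fun χ hχ => ?_).trans (Finset.sum_le_sum_of_subset_of_nonneg
      (Finset.filter_subset_filter _ (Finset.subset_univ _)) fun _ _ _ => zero_le_one)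
    obtain ⟨lam, hlam⟩ := IsCharacter.exists_hom (isCharacter_irr χ) (Finset.mem_filter.1 hχ).2
    rw [hlam]
    simp [norm_hom]
  have hcard : ∀ k : H, (Nat.card H : ℝ) ≤ colsq M (k : G) := fun k => by
    obtain ⟨j, hj⟩ := orderOf_eq_pow hS k.2
    exact card_le_colsq hM hj hS.pg fun y hy =>
      mem_centralizer_singleton_iff.2 (hS.comm y hy k k.2)
  have hne3 : ∀ a b : H, ∃ k : H, k ≠ a ∧ k ≠ b := fun a b => by
    by_contra hcon
    push Not at hcon
    have : (univ : Finset H) ⊆ {a, b} := fun k _ => by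
      rw [Finset.mem_insert, Finset.mem_singleton]; tauto
    have := (Finset.card_le_card this).trans Finset.card_le_two
    rw [Finset.card_univ, ← Nat.card_eq_fintype_card] at this
    omega
  obtain ⟨k₀, hk₀, hk₀'⟩ := hne3 1 z⁻¹
  have hNL : (Nat.card H : ℝ) ≤ L := (hcard k₀).trans (hlow k₀ hk₀
    fun h => hk₀' (eq_inv_of_mul_eq_one_right h))
  have hK : (commutator G).subgroupOf H = ⊥ := by
    refine Subgroup.eq_bot_of_card_le _ (not_lt.1 fun hlt => ?_)
    have h1 := ((commutator G).subgroupOf H).index_mul_card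
    have h2 : Nat.card H ≤ L := by exact_mod_cast hNL
    have hN0 : 0 < L := lt_of_lt_of_le (by omega) h2
    nlinarith
  have hall : ∀ (k : H) (m : normalizer (H : Set G)), cj m k = k := fun k m => by
    have := mem_subgroupOf_commutator (mem_orb.2 ⟨m, rfl⟩ : cj m k ∈ orb H k)
    rw [hK, Subgroup.mem_bot, inv_mul_eq_one] at this
    exact this.symm
  obtain ⟨S, hS'⟩ := hS.pg.exists_le_sylow
  have hSN : (S : Subgroup G) ≤ normalizer (H : Set G) :=
    ((Cfsg.Agent.S3021.result H hS.pg hS.ec).2 S hS').1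
  have hSH : (S : Subgroup G) = H := by
    refine (Subgroup.eq_of_le_of_card_ge hS' ?_).symm
    obtain ⟨j, hj⟩ := orderOf_eq_pow hS k₀.2
    have h1 : (Nat.card (S : Subgroup G) : ℝ) ≤ colsq M (k₀ : G) := by
      refine card_le_colsq hM hj S.isPGroup' fun y hy => mem_centralizer_singleton_iff.2 ?_
      have h2 : y * (k₀ : G) * y⁻¹ = k₀ := congrArg Subtype.val (hall k₀ ⟨y, hSN hy⟩)
      exact (mul_inv_eq_iff_eq_mul.1 h2)
    have h3 : colsq M (k₀ : G) ≤ (Nat.card H : ℝ) :=
      (hlow k₀ hk₀ fun h => hk₀' (eq_inv_of_mul_eq_one_right h)).trans (by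
        exact_mod_cast Nat.le_of_dvd Nat.card_pos (Dvd.intro _ (Subgroup.index_mul_card _)))
    exact_mod_cast h1.trans h3
  have hP : normalizer ((S : Subgroup G) : Set G) ≤ centralizer ((S : Subgroup G) : Set G) := by
    rw [hSH]
    intro m hm
    rw [mem_centralizer_iff]
    intro k hk
    have h2 : m * k * m⁻¹ = k := congrArg Subtype.val (hall ⟨k, hk⟩ ⟨m, hm⟩)
    exact (mul_inv_eq_iff_eq_mul.1 h2).symm
  have hc := MonoidHom.ker_transferSylow_isComplement' S hP
  rw [eq_top_iff, ← hc.sup_eq_top, sup_le_iff]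
  refine ⟨le_trans ?_ le_sup_right, le_trans (hSH ▸ Subgroup.le_normalizer) le_sup_left⟩
  exact CfsgLib.Solvable.le_pPrimeCore p (MonoidHom.normal_ker _)
    ((hp.out.coprime_iff_not_dvd.2 (MonoidHom.not_dvd_card_ker_transferSylow S hP)).symm)

open Classical in
/-- No group of order three is inverted by its normalizer. -/
theorem false_of_card_three (hN : Nat.card H = 3)
    (hmov : ∀ z : H, z ≠ 1 → ∃ m : normalizer (H : Set G), cj m z ≠ z) : False := by
  haveI : Finite (H →* ℂˣ) := Finite.of_equiv _ (linearCharEquiv (G := H)).symm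
  letI : Fintype (H →* ℂˣ) := Fintype.ofFinite _
  have hNf : Fintype.card H = 3 := by rw [← Nat.card_eq_fintype_card, hN]
  obtain ⟨h, hh⟩ : ∃ h : H, h ≠ 1 := Fintype.exists_ne_of_one_lt_card (by omega) 1
  obtain ⟨m, hm⟩ := hmov h hh
  set h' := cj m h with hh'
  have hh'1 : h' ≠ 1 := ne_one_of_mem_orb hh (mem_orb.2 ⟨m, rfl⟩)
  have huniv : (univ : Finset H) = {1, h, h'} :=
    (Finset.eq_univ_of_card _ (by
      rw [hNf, Finset.card_insert_of_notMem (by simp [hh.symm, hh'1.symm]),
        Finset.card_pair hm.symm])).symm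
  have hcases : ∀ x : H, x = 1 ∨ x = h ∨ x = h' := fun x => by
    have := huniv ▸ Finset.mem_univ x
    simpa using this
  have hinv : h' = h⁻¹ := by
    rcases hcases h⁻¹ with h1 | h1 | h1
    · exact absurd (inv_eq_one.1 h1) hh
    · exfalso
      have h2 : orderOf h ∣ 2 := orderOf_dvd_of_pow_eq_one (by rw [pow_two, mul_eq_one_iff_inv_eq, h1])
      have h3 : orderOf h ∣ 3 := hN ▸ orderOf_dvd_natCard h
      exact hh (orderOf_eq_one_iff.1 (Nat.dvd_one.1 (by simpa using Nat.dvd_gcd h2 h3)))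
    · exact h1.symm
  have hhh : h * h = h' := by
    rcases hcases (h * h) with h1 | h1 | h1
    · exact absurd (hinv.trans (inv_eq_of_mul_eq_one_right h1)) hm
    · exact absurd (mul_eq_left.1 h1) hh
    · exact h1
  have horb : orb H h = {h, h'} := by
    ext x
    rw [Finset.mem_insert, Finset.mem_singleton]
    refine ⟨fun hx => (hcases x).resolve_left (ne_one_of_mem_orb hh hx), ?_⟩
    rintro (rfl | rfl)
    exacts [self_mem_orb x, mem_orb.2 ⟨m, rfl⟩]
  have hfil : (orb H h).filter (fun x => h * x ∈ orb H (h * h)) = {h} := by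
    rw [hhh, orb_eq (mem_orb.2 ⟨m, rfl⟩ : h' ∈ orb H h), horb, hinv]
    ext x
    simp only [Finset.mem_filter, Finset.mem_insert, Finset.mem_singleton]
    constructor
    · rintro ⟨rfl | rfl, hx⟩
      · rfl
      · rw [mul_inv_cancel] at hx
        rcases hx with hx | hx
        · exact absurd hx.symm hh
        · exact absurd (inv_eq_one.1 hx.symm) hh
    · rintro rfl
      exact ⟨Or.inl rfl, Or.inr (hhh.trans hinv)⟩
  have hval : ∀ χ : Cfsg.IrrCharacter G, (χ : G → ℂ) h' = (χ : G → ℂ) h := fun χ => by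
    rw [hh', coe_cj, isClassFunction_irr χ (h : G) (m : G)]
  have hreal : ∀ χ : Cfsg.IrrCharacter G,
      (χ : G → ℂ) h = (((χ : G → ℂ) h).re : ℂ) := fun χ => by
    refine (Complex.conj_eq_iff_re.1 ?_).symm
    rw [conj_irr, ← Subgroup.coe_inv, ← hinv, hval]
  have hc : colsq M ((h * h : H) : G) = colsq M (h : G) := by
    rw [hhh]; exact colsq_eq_of_conj _ _
  have key := sum_triple hM hS hC h h (by rw [hhh]; exact hh'1)
  rw [hfil, horb, Finset.card_singleton, Finset.card_pair hm.symm, hc] at key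
  have key' : ∑ χ ∈ pblock M G, ((χ : G → ℂ) h).re ^ 3 / ((χ : G → ℂ) 1).re =
      colsq M (h : G) / 2 := by
    apply Complex.ofReal_injective
    rw [Complex.ofReal_sum]
    calc _ = ∑ χ ∈ pblock M G, (χ : G → ℂ) h * (χ : G → ℂ) h *
          conj ((χ : G → ℂ) (h * h : H)) / (χ : G → ℂ) 1 := by
          refine Finset.sum_congr rfl fun χ _ => ?_
          rw [hhh, hval, hreal χ, Complex.conj_ofReal, conj_cubic_eq χ]
          push_cast [Complex.ofReal_re]
          ring
      _ = _ := by rw [key]; push_cast; ring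
  have hsq : colsq M (h : G) = ∑ χ ∈ pblock M G, ((χ : G → ℂ) h).re ^ 2 := by
    refine Finset.sum_congr rfl fun χ _ => ?_
    conv_lhs => rw [hreal χ, Complex.norm_real, Real.norm_eq_abs, sq_abs]
  have hone : oneIrr G ∈ pblock M G := mem_pblock.2 oneIrr_mem_principalBlock
  have hL : ((commutator G).subgroupOf H).index = 1 := by
    have hle : (univ : Finset H).erase 1 = {h, h'} := by
      rw [huniv, Finset.erase_insert (by simp [hh.symm, hh'1.symm])]
    have hmem := mem_subgroupOf_commutator (mem_orb.2 ⟨m, rfl⟩ : h' ∈ orb H h)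
    have hne' : h⁻¹ * h' ≠ 1 := fun h1 => hm (inv_mul_eq_one.1 h1).symm
    have hd : Nat.card ((commutator G).subgroupOf H) ∣ 3 := hN ▸ Subgroup.card_subgroup_dvd_card _
    rcases (Nat.dvd_prime Nat.prime_three).1 hd with h1 | h1
    · exact absurd ((Subgroup.eq_bot_iff_forall _).1 (Subgroup.card_eq_one.1 h1) _ hmem) hne'
    · have := ((commutator G).subgroupOf H).index_mul_card
      rw [h1, hN] at this
      omega
  have hlin : ∀ χ : Cfsg.IrrCharacter G, (χ : G → ℂ) 1 = 1 → χ = oneIrr G := fun χ hχ => by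
    have h1 := card_linear_le hgen (H := H)
    rw [hL] at h1
    haveI := (Finite.card_le_one_iff_subsingleton).1 h1
    exact congrArg Subtype.val (Subsingleton.elim
      (⟨χ, hχ⟩ : {χ : Cfsg.IrrCharacter G // (χ : G → ℂ) 1 = 1}) ⟨oneIrr G, rfl⟩)
  have hquarter : ∀ χ ∈ pblock M G, χ ≠ oneIrr G →
      4 * ((χ : G → ℂ) h).re ≤ ((χ : G → ℂ) 1).re := by
    intro χ hχ hne
    have h1 := acf_one_le hS (hC χ (mem_pblock.1 hχ)) hgen (fun h1 => hne (hlin χ h1))
    have h2 : acf H (χ : G → ℂ) 1 = ((χ : G → ℂ) 1).re + 2 * ((χ : G → ℂ) h).re := by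
      rw [acf, cf]
      simp only [MonoidHom.one_apply, Units.val_one, one_mul]
      rw [huniv, Finset.sum_insert (by simp [hh.symm, hh'1.symm]), Finset.sum_pair hm.symm, hval]
      simp only [OneMemClass.coe_one, Complex.add_re]
      ring
    rw [h2, hN] at h1
    push_cast at h1
    linarith
  have hthree : (3 : ℝ) ≤ colsq M (h : G) := by
    obtain ⟨j, hj⟩ := orderOf_eq_pow hS h.2
    have := card_le_colsq hM hj hS.pg fun y hy =>
      mem_centralizer_singleton_iff.2 (hS.comm y hy h h.2)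
    rwa [hN, Nat.cast_ofNat] at this
  have hterm : ∀ χ ∈ (pblock M G).erase (oneIrr G),
      0 ≤ ((χ : G → ℂ) h).re ^ 2 * (1 / 4 - ((χ : G → ℂ) h).re / ((χ : G → ℂ) 1).re) := by
    intro χ hχ
    have hd0 : 0 < ((χ : G → ℂ) 1).re := by rw [(irr_one χ).1]; simpa using (irr_one χ).2
    refine mul_nonneg (sq_nonneg _) (sub_nonneg.2 ((div_le_iff₀ hd0).2 ?_))
    linarith [hquarter χ (Finset.mem_of_mem_erase hχ) (Finset.ne_of_mem_erase hχ)]
  have hsum : ∑ χ ∈ (pblock M G).erase (oneIrr G),
      ((χ : G → ℂ) h).re ^ 2 * (1 / 4 - ((χ : G → ℂ) h).re / ((χ : G → ℂ) 1).re) =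
      (3 - colsq M (h : G)) / 4 := by
    rw [← Finset.add_sum_erase _ _ hone] at key' hsq
    simp only [oneIrr_apply, Complex.one_re, one_pow, div_one] at key' hsq
    rw [Finset.sum_congr rfl (g := fun χ : Cfsg.IrrCharacter G => ((χ : G → ℂ) h).re ^ 2 / 4 -
      ((χ : G → ℂ) h).re ^ 3 / ((χ : G → ℂ) 1).re) fun χ _ => by ring, Finset.sum_sub_distrib,
      ← Finset.sum_div]
    linarith
  have hzero := (Finset.sum_eq_zero_iff_of_nonneg hterm).1
    (le_antisymm (hsum.trans_le (by linarith)) (Finset.sum_nonneg hterm))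
  have hpos : 1 ≤ ∑ χ ∈ pblock M G, ((χ : G → ℂ) 1).re * ((χ : G → ℂ) h).re := by
    rw [← Finset.add_sum_erase _ _ hone]
    simp only [oneIrr_apply, Complex.one_re, one_mul]
    refine le_add_of_nonneg_right (Finset.sum_nonneg fun χ hχ => ?_)
    have hd0 : 0 < ((χ : G → ℂ) 1).re := by rw [(irr_one χ).1]; simpa using (irr_one χ).2
    refine mul_nonneg hd0.le ?_
    rcases mul_eq_zero.1 (hzero χ hχ) with h1 | h1
    · rw [pow_eq_zero_iff two_ne_zero] at h1; exact h1.ge
    · rw [sub_eq_zero, eq_div_iff hd0.ne'] at h1; linarith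
  have horth := weak_orth hM (isIntClass_blockCoeff (isPBlock_principalBlock (M := M) (G := G)))
    (g := (1 : G)) (by rw [orderOf_one]; exact hp.out.not_dvd_one)
    (dvd_orderOf hS h.2 fun h1 => hh (OneMemClass.coe_eq_one.1 h1))
  have hre := congrArg Complex.re horth
  rw [Complex.re_sum, Complex.zero_re] at hre
  refine absurd (hpos.trans_eq ((Finset.sum_congr (by unfold pblock; congr) fun χ _ => ?_).trans hre))
    (by norm_num)
  rw [hreal χ, Complex.conj_ofReal, Complex.re_mul_ofReal, Complex.ofReal_re]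

open Classical in
/-- The conclusion, for `H` of order at least three. -/
theorem eq_top_of_three_le (hN : 3 ≤ Nat.card H) :
    normalizer (H : Set G) ⊔ Cfsg.pPrimeCore p G = ⊤ := by
  by_cases hfix : ∃ z : H, z ≠ 1 ∧ ∀ m : normalizer (H : Set G), cj m z = z
  · obtain ⟨z, hz, hz'⟩ := hfix
    exact eq_top_of_fixed hM hS hC hgen hN hz hz'
  push Not at hfix
  rcases hN.lt_or_eq' with hN4 | hN3
  swap
  · exact (false_of_card_three hM hS hC hgen hN3 hfix).elim
  exfalso
  set L := ((commutator G).subgroupOf H).index with hL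
  set K := Nat.card ((commutator G).subgroupOf H) with hK
  have hLK : L * K = Nat.card H := Subgroup.index_mul_card _
  set N := Nat.card H with hNdef
  have hL0 : 0 < L := Nat.pos_of_ne_zero fun h0 => by rw [h0, zero_mul] at hLK; omega
  have hn2 : ∀ k : H, k ≠ 1 → 2 ≤ (orb H k).card := fun k hk => by
    obtain ⟨m, hm⟩ := hfix k hk
    exact Finset.one_lt_card.2 ⟨k, self_mem_orb k, cj m k, mem_orb.2 ⟨m, rfl⟩, hm.symm⟩
  have hH0 : ∀ k x : H, x ∈ orb H k → k⁻¹ * x ∈ (commutator G).subgroupOf H :=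
    fun k x hx => mem_subgroupOf_commutator hx
  have hK3 : 3 ≤ K := by
    obtain ⟨k, hk⟩ := Fintype.exists_ne_of_one_lt_card
      (by rw [← Nat.card_eq_fintype_card]; omega : 1 < Fintype.card H) 1
    obtain ⟨m, hm⟩ := hfix k hk
    have h1 := hH0 k _ (mem_orb.2 ⟨m, rfl⟩)
    set z := k⁻¹ * cj m k with hz
    have hz1 : z ≠ 1 := fun h0 => hm (inv_mul_eq_one.1 h0).symm
    obtain ⟨m', hm'⟩ := hfix z hz1
    have h2 : z⁻¹ * cj m' z ∈ (commutator G).subgroupOf H := hH0 z _ (mem_orb.2 ⟨m', rfl⟩)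
    have h3 : cj m' z ∈ (commutator G).subgroupOf H := by
      simpa using mul_mem h1 h2
    have h4 : ({1, z, cj m' z} : Finset H) ⊆ univ.filter (· ∈ (commutator G).subgroupOf H) := by
      intro x hx
      simp only [Finset.mem_insert, Finset.mem_singleton] at hx
      rcases hx with rfl | rfl | rfl <;> simp [h1, h3, one_mem]
    have h5 := Finset.card_le_card h4
    rw [Finset.card_insert_of_notMem (by
      simp only [Finset.mem_insert, Finset.mem_singleton, not_or]
      exact ⟨hz1.symm, (ne_one_of_mem_orb hz1 (mem_orb.2 ⟨m', rfl⟩)).symm⟩),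
      Finset.card_pair hm'.symm, ← Fintype.card_subtype, ← Nat.card_eq_fintype_card] at h5
    exact h5
  -- the contribution of each orbit
  set Ψ : H → ℝ := fun w => ∑ a : H, if a ≠ 1 ∧ a⁻¹ * w ≠ 1 then
    ((orb H (a⁻¹ * w)).filter fun x => a * x ∈ orb H w).card / ((orb H (a⁻¹ * w)).card : ℝ)
    else 0 with hΨ
  have hZ : ∑ w ∈ (univ : Finset H).erase 1, colsq M (w : G) * Ψ w =
      ∑ h : H, ∑ k : H, (if h ≠ 1 ∧ k ≠ 1 ∧ h * k ≠ 1 then colsq M ((h * k : H) : G) *
        ((orb H k).filter fun x => h * x ∈ orb H (h * k)).card / (orb H k).card else 0) := by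
    simp only [hΨ, Finset.mul_sum]
    rw [Finset.sum_comm]
    refine Finset.sum_congr rfl fun a _ => ?_
    rw [← Fintype.sum_equiv (Equiv.mulLeft a⁻¹) (fun w => if a ≠ 1 ∧ a⁻¹ * w ≠ 1 ∧ w ≠ 1 then
      colsq M (w : G) * (((orb H (a⁻¹ * w)).filter fun x => a * x ∈ orb H w).card /
        ((orb H (a⁻¹ * w)).card : ℝ)) else 0) _ fun w => by
        simp only [Equiv.coe_mulLeft, mul_inv_cancel_left, mul_div_assoc],
      ← Finset.add_sum_erase univ _ (Finset.mem_univ (1 : H))]
    simp only [ne_eq, not_true_eq_false, and_false, if_false, zero_add]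
    refine Finset.sum_congr rfl fun w hw => ?_
    simp only [Finset.ne_of_mem_erase hw, not_false_eq_true, and_true, mul_ite, mul_zero]
  have hup := sum_colsq_orb_le hM hS hC hgen hN
  rw [← hZ] at hup
  have havg : ∑ w ∈ (univ : Finset H).erase 1, colsq M (w : G) * Ψ w =
      ∑ w ∈ (univ : Finset H).erase 1,
        colsq M (w : G) * ((∑ w' ∈ orb H w, Ψ w') / (orb H w).card) := by
    simp only [Finset.sum_div, Finset.mul_sum]
    rw [Finset.sum_comm' (t' := (univ : Finset H).erase 1) (s' := fun w' => orb H w')]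
    · refine Finset.sum_congr rfl fun w' _ => ?_
      have hn : ((orb H w').card : ℝ) ≠ 0 :=
        Nat.cast_ne_zero.2 (Finset.card_pos.2 ⟨w', self_mem_orb w'⟩).ne'
      rw [Finset.sum_congr rfl fun w hw => by rw [colsq_orb hw, orb_eq hw], Finset.sum_const,
        nsmul_eq_mul]
      field_simp
    · intro w w'
      simp only [Finset.mem_erase, Finset.mem_univ, and_true]
      constructor
      · rintro ⟨hw, hw'⟩
        exact ⟨orb_eq hw' ▸ self_mem_orb w, ne_one_of_mem_orb hw hw'⟩
      · rintro ⟨hw, hw'⟩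
        exact ⟨ne_one_of_mem_orb hw' hw, orb_eq hw ▸ self_mem_orb w'⟩
  have hmain : ∀ w : H, w ≠ 1 → (N : ℝ) + L * ((N : ℝ) - 3) <
      N * ((∑ w' ∈ orb H w, Ψ w') / (orb H w).card) := by
    intro w hw
    set W := orb H w with hW
    have hW1 : W ⊆ univ.erase 1 := fun x hx =>
      Finset.mem_erase.2 ⟨ne_one_of_mem_orb hw hx, Finset.mem_univ _⟩
    set n := W.card with hn
    have hn2' : 2 ≤ n := hn2 w hw
    let I : H → Finset H := fun a => (W.erase a).image fun x => a⁻¹ * x
    have hIcard : ∀ a : H, (I a).card = if a ∈ W then n - 1 else n := fun a => by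
      rw [Finset.card_image_of_injective _ (mul_right_injective _), Finset.card_erase_eq_ite]
    have hsumI : ∑ w' ∈ W, Ψ w' = ∑ a ∈ (univ : Finset H).erase 1,
        ∑ k ∈ I a, (((I a).filter (· ∈ orb H k)).card : ℝ) / (orb H k).card := by
      simp only [hΨ]
      rw [Finset.sum_comm, ← Finset.add_sum_erase univ _ (Finset.mem_univ (1 : H))]
      simp only [ne_eq, not_true_eq_false, false_and, if_false, Finset.sum_const_zero, zero_add]
      refine Finset.sum_congr rfl fun a ha => ?_
      rw [Finset.sum_image (mul_right_injective _).injOn, ← Finset.sum_filter]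
      refine Finset.sum_congr ?_ fun w' hw' => ?_
      · ext x
        simp only [Finset.mem_filter, Finset.mem_erase, Finset.ne_of_mem_erase ha, not_false_eq_true,
          true_and, inv_mul_eq_one, ne_comm (a := x)]
        tauto
      · obtain ⟨hne, hw'⟩ := Finset.mem_erase.1 hw'
        congr 2
        refine congrArg Finset.card ?_
        ext x
        simp only [I, Finset.mem_filter, Finset.mem_image, Finset.mem_erase, orb_eq hw']
        constructor
        · rintro ⟨hx, hax⟩
          refine ⟨⟨a * x, ⟨?_, hax⟩, inv_mul_cancel_left a x⟩, hx⟩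
          intro h0
          exact ne_one_of_mem_orb (fun h1 => hne (inv_mul_eq_one.1 h1).symm) hx (mul_eq_left.1 h0)
        · rintro ⟨⟨y, ⟨-, hy⟩, rfl⟩, hx⟩
          exact ⟨hx, by rwa [mul_inv_cancel_left]⟩
    have hIne : ∀ a, ∀ k ∈ I a, k ≠ 1 := fun a k hk => by
      obtain ⟨x, hx, rfl⟩ := Finset.mem_image.1 hk
      exact fun h0 => (Finset.ne_of_mem_erase hx) (inv_mul_eq_one.1 h0).symm
    have hsumsq : ∑ a ∈ (univ : Finset H).erase 1, ((I a).card : ℝ) ^ 2 =
        n * ((n : ℝ) * ((N : ℝ) - 3) + 1) := by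
      rw [← Finset.sum_sdiff hW1, Finset.sum_congr rfl fun a ha => by
        rw [hIcard, if_neg (Finset.mem_sdiff.1 ha).2], Finset.sum_congr (s₁ := W) rfl fun a ha => by
        rw [hIcard, if_pos ha], Finset.sum_const, Finset.sum_const, nsmul_eq_mul, nsmul_eq_mul,
        Finset.card_sdiff_of_subset hW1, Nat.cast_sub (Finset.card_le_card hW1),
        Finset.card_erase_of_mem (Finset.mem_univ _), Finset.card_univ,
        Nat.cast_sub Fintype.card_pos, ← Nat.card_eq_fintype_card,
        Nat.cast_sub (by omega : 1 ≤ n), ← hn]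
      push_cast
      ring
    have hbound : ∀ (D : H → Finset H), (∀ a, a ≠ 1 → ∀ k ∈ I a, orb H k ⊆ D a) →
        ∑ a ∈ (univ : Finset H).erase 1, ((I a).card : ℝ) ^ 2 / (D a).card ≤ ∑ w' ∈ W, Ψ w' := by
      intro D hD
      rw [hsumI]
      exact Finset.sum_le_sum fun a ha =>
        sq_card_div_le (I a) (D a) (hD a (Finset.ne_of_mem_erase ha))
    have hN4' : (4 : ℝ) ≤ N := by exact_mod_cast hN4
    have hn2R : (2 : ℝ) ≤ n := by exact_mod_cast hn2'
    have hnpos : (0 : ℝ) < n := by linarith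
    rw [mul_div_assoc', lt_div_iff₀ hnpos]
    rcases (Nat.succ_le_of_lt hL0).lt_or_eq' with hL1 | hL1
    · -- the orbits lie in the cosets of the intersection with the commutator subgroup
      let D : H → Finset H := fun a =>
        (univ.filter (· ∈ (commutator G).subgroupOf H)).image fun t => a⁻¹ * w * t
      have hDcard : ∀ a, (D a).card = K := fun a => by
        rw [Finset.card_image_of_injective _ (mul_right_injective _), ← Fintype.card_subtype,
          ← Nat.card_eq_fintype_card]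
      have h1 := hbound D fun a _ k hk x hx => by
        obtain ⟨y, hy, rfl⟩ := Finset.mem_image.1 hk
        refine Finset.mem_image.2 ⟨(a⁻¹ * w)⁻¹ * x, Finset.mem_filter.2 ⟨Finset.mem_univ _, ?_⟩,
          mul_inv_cancel_left _ _⟩
        have h2 := mul_mem (hH0 w y (Finset.mem_of_mem_erase hy)) (hH0 _ x hx)
        convert h2 using 1
        group
      simp only [hDcard, ← Finset.sum_div, hsumsq] at h1
      have hKR : (3 : ℝ) ≤ K := by exact_mod_cast hK3
      rw [div_le_iff₀ (by linarith)] at h1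
      have hNLK : (N : ℝ) = L * K := by exact_mod_cast hLK.symm
      have hN2 : (2 : ℝ) * K ≤ N := by
        rw [hNLK]; exact mul_le_mul_of_nonneg_right (by exact_mod_cast hL1) (by linarith)
      refine lt_of_mul_lt_mul_right ?_ (by linarith : (0 : ℝ) ≤ K)
      calc ((N : ℝ) + L * ((N : ℝ) - 3)) * n * K = N * n * (K + ((N : ℝ) - 3)) := by
            rw [hNLK]; ring
        _ < N * (n * ((n : ℝ) * ((N : ℝ) - 3) + 1)) := by
            rw [mul_assoc]
            refine mul_lt_mul_of_pos_left (mul_lt_mul_of_pos_left ?_ hnpos) (by linarith)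
            nlinarith [mul_le_mul_of_nonneg_right hn2R (by linarith : (0 : ℝ) ≤ (N : ℝ) - 3)]
        _ ≤ _ := by rw [mul_assoc]; exact mul_le_mul_of_nonneg_left h1 (by linarith)
    have hNK : (N : ℝ) = K := by rw [← hLK, hL1]; simp
    rw [hL1, Nat.cast_one, one_mul]
    rcases hn2'.lt_or_eq' with hn3 | hn22
    · have h1 := hbound (fun _ => univ.erase 1) fun a _ k hk x hx =>
        Finset.mem_erase.2 ⟨ne_one_of_mem_orb (hIne a k hk) hx, Finset.mem_univ _⟩
      simp only [Finset.card_erase_of_mem (Finset.mem_univ _), Finset.card_univ,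
        ← Finset.sum_div, hsumsq, ← Nat.card_eq_fintype_card] at h1
      rw [Nat.cast_sub (by omega : 1 ≤ N), Nat.cast_one, div_le_iff₀ (by linarith)] at h1
      have hn3R : (3 : ℝ) ≤ n := by exact_mod_cast hn3
      refine lt_of_mul_lt_mul_right ?_ (by linarith : (0 : ℝ) ≤ (N : ℝ) - 1)
      calc ((N : ℝ) + ((N : ℝ) - 3)) * n * ((N : ℝ) - 1)
          = n * ((2 * (N : ℝ) - 3) * ((N : ℝ) - 1)) := by ring
        _ < n * (N * ((n : ℝ) * ((N : ℝ) - 3) + 1)) := by
            refine mul_lt_mul_of_pos_left ?_ hnpos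
            nlinarith [mul_le_mul_of_nonneg_right hn3R (mul_nonneg (by linarith : (0 : ℝ) ≤ N)
              (by linarith : (0 : ℝ) ≤ (N : ℝ) - 3))]
        _ = (N : ℝ) * (n * ((n : ℝ) * ((N : ℝ) - 3) + 1)) := by ring
        _ ≤ _ := by rw [mul_assoc]; exact mul_le_mul_of_nonneg_left h1 (by linarith)
    -- orbits of length two
    have hN5 : 5 ≤ N := by
      by_contra hlt
      have h4 : N = 4 := by omega
      obtain ⟨z, hz⟩ : ∃ z, z ∈ ((univ : Finset H).erase 1) \ W := by
        refine Finset.card_pos.1 ?_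
        rw [Finset.card_sdiff_of_subset hW1, Finset.card_erase_of_mem (Finset.mem_univ _),
          Finset.card_univ, ← Nat.card_eq_fintype_card, ← hn]
        omega
      obtain ⟨hz1, hzW⟩ := Finset.mem_sdiff.1 hz
      have hdisj : Disjoint W (orb H z) := Finset.disjoint_left.2 fun x hx hx' =>
        hzW (by rw [hW, ← orb_eq hx, orb_eq hx']; exact self_mem_orb z)
      have := Finset.card_le_card (Finset.union_subset hW1 fun x hx => Finset.mem_erase.2
        ⟨ne_one_of_mem_orb (Finset.ne_of_mem_erase hz1) hx, Finset.mem_univ _⟩ :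
          W ∪ orb H z ⊆ univ.erase 1)
      rw [Finset.card_union_of_disjoint hdisj, Finset.card_erase_of_mem (Finset.mem_univ _),
        Finset.card_univ, ← Nat.card_eq_fintype_card] at this
      have := hn2 z (Finset.ne_of_mem_erase hz1)
      omega
    let D : H → Finset H := fun a => if a ∈ W then (I a).biUnion (orb H) else univ.erase 1
    have h1 := hbound D fun a ha k hk => by
      simp only [D]
      split_ifs with haW
      · exact Finset.subset_biUnion_of_mem (orb H) hk
      · exact fun x hx => Finset.mem_erase.2 ⟨ne_one_of_mem_orb (hIne a k hk) hx, Finset.mem_univ _⟩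
    have hDW : ∀ a ∈ W, (D a).card ≤ 2 := fun a ha => by
      simp only [D, if_pos ha]
      obtain ⟨b, hb⟩ : ∃ b, W.erase a = {b} :=
        Finset.card_eq_one.1 (by rw [Finset.card_erase_of_mem ha]; omega)
      simp only [I, hb, Finset.image_singleton, Finset.singleton_biUnion]
      have hWab : W = {a, b} := by rw [← hb, Finset.insert_erase ha]
      have hab : a ≠ b := fun h0 => by
        have := hb ▸ Finset.mem_singleton_self b
        exact Finset.ne_of_mem_erase this h0.symm
      refine le_trans (Finset.card_le_card (t := {a⁻¹ * b, b⁻¹ * a}) fun x hx => ?_)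
        Finset.card_le_two
      obtain ⟨m, rfl⟩ := mem_orb.1 hx
      have hmem : ∀ y ∈ W, cj m y ∈ W := fun y hy => by
        rw [hW] at hy ⊢
        rw [← orb_eq hy]
        exact mem_orb.2 ⟨m, rfl⟩
      have hma := hmem a ha
      have hmb := hmem b (by rw [hWab]; simp)
      have hne : cj m a ≠ cj m b := fun h0 => hab (Subtype.ext (mul_left_cancel (mul_right_cancel
        (congrArg Subtype.val h0 : (m : G) * a * (m : G)⁻¹ = m * b * (m : G)⁻¹))))
      rw [hWab, Finset.mem_insert, Finset.mem_singleton] at hma hmb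
      rw [map_mul, map_inv, Finset.mem_insert, Finset.mem_singleton]
      rcases hma with e1 | e1 <;> rcases hmb with e2 | e2
      · exact absurd (e1.trans e2.symm) hne
      · exact Or.inl (by rw [e1, e2])
      · exact Or.inr (by rw [e1, e2])
      · exact absurd (e1.trans e2.symm) hne
    have hn2eq : (n : ℝ) = 2 := by exact_mod_cast hn22
    have hN5R : (5 : ℝ) ≤ N := by exact_mod_cast hN5
    have h2 : ((n : ℝ) * (1 / 2) + ((N : ℝ) - 1 - n) * (4 / ((N : ℝ) - 1))) ≤ ∑ w' ∈ W, Ψ w' := by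
      refine le_trans ?_ h1
      rw [← Finset.sum_sdiff hW1, add_comm]
      refine add_le_add (le_of_eq ?_) ?_
      · rw [Finset.sum_congr rfl fun a ha => by
          rw [hIcard, if_neg (Finset.mem_sdiff.1 ha).2, show D a = univ.erase 1 from
            if_neg (Finset.mem_sdiff.1 ha).2], Finset.sum_const, nsmul_eq_mul,
          Finset.card_sdiff_of_subset hW1, Nat.cast_sub (Finset.card_le_card hW1),
          Finset.card_erase_of_mem (Finset.mem_univ _), Finset.card_univ,
          Nat.cast_sub Fintype.card_pos, ← Nat.card_eq_fintype_card, ← hn, hn2eq]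
        norm_num [hNdef, Nat.card_eq_fintype_card]
      · rw [← nsmul_eq_mul, ← Finset.sum_const]
        refine Finset.sum_le_sum fun a ha => ?_
        rw [hIcard, if_pos ha, show n - 1 = 1 by omega, Nat.cast_one, one_pow]
        have hpos : 0 < (D a).card := by
          simp only [D, if_pos ha]
          obtain ⟨b, hb⟩ := Finset.card_pos.1 (by
            rw [hIcard, if_pos ha]; omega : 0 < (I a).card)
          exact Finset.card_pos.2 ⟨b, Finset.mem_biUnion.2 ⟨b, hb, self_mem_orb b⟩⟩
        exact one_div_le_one_div_of_le (Nat.cast_pos.2 hpos) (by exact_mod_cast hDW a ha)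
    rw [hn2eq] at h2 ⊢
    refine lt_of_lt_of_le ?_ (mul_le_mul_of_nonneg_left h2 (by linarith))
    have hN1 : (0 : ℝ) < (N : ℝ) - 1 := by linarith
    rw [show (N : ℝ) * (2 * (1 / 2) + ((N : ℝ) - 1 - 2) * (4 / ((N : ℝ) - 1))) =
      N * (((N : ℝ) - 1) + 4 * ((N : ℝ) - 3)) / ((N : ℝ) - 1) by field_simp; ring,
      lt_div_iff₀ hN1]
    nlinarith
  have hcard : ∀ w : H, (N : ℝ) ≤ colsq M (w : G) := fun w => by
    obtain ⟨j, hj⟩ := orderOf_eq_pow hS w.2
    exact card_le_colsq hM hj hS.pg fun y hy =>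
      mem_centralizer_singleton_iff.2 (hS.comm y hy w w.2)
  have hN0 : (0 : ℝ) < N := by exact_mod_cast (by omega : 0 < N)
  have hlow : ∀ w ∈ (univ : Finset H).erase 1, colsq M (w : G) + L * ((N : ℝ) - 3) <
      colsq M (w : G) * ((∑ w' ∈ orb H w, Ψ w') / (orb H w).card) := by
    intro w hw
    have h1 := hmain w (Finset.ne_of_mem_erase hw)
    have h2 := hcard w
    have h3 : (0 : ℝ) ≤ L * ((N : ℝ) - 3) :=
      mul_nonneg (Nat.cast_nonneg _) (by
        have : (3 : ℝ) ≤ N := by exact_mod_cast hN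
        linarith)
    nlinarith [mul_le_mul_of_nonneg_right h2
      (show 0 ≤ ((∑ w' ∈ orb H w, Ψ w') / (orb H w).card) - 1 by nlinarith)]
  have hlt := Finset.sum_lt_sum_of_nonempty
    (Finset.card_pos.1 (by rw [Finset.card_erase_of_mem (Finset.mem_univ _), Finset.card_univ,
      ← Nat.card_eq_fintype_card]; omega)) hlow
  rw [← havg, Finset.sum_add_distrib, Finset.sum_const, nsmul_eq_mul,
    Finset.card_erase_of_mem (Finset.mem_univ _), Finset.card_univ,
    Nat.cast_sub Fintype.card_pos, ← Nat.card_eq_fintype_card] at hlt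
  simp only [Nat.cast_one] at hlt
  linarith

end CfsgLib.ExtClosed
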