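import Cfsg.Agent.ExtClosed.Global
import Cfsg.Agent.ZStar.Final
import Cfsg.Agent.Blocks.Congr
import Mathlib.GroupTheory.SchurZassenhaus

/-!
# A group is the product of the normalizer of an extremely closed abelian p-subgroup and its core
-/

set_option autoImplicit false
set_option linter.unusedSectionVars false
set_option linter.style.haveILetI false

namespace CfsgLib.ExtClosed

open Subgroup CfsgLib.Block CfsgLib.LocalB

universe u

variable {G : Type u} [Group G] [Finite G] {p : ℕ} [hp : Fact p.Prime] {H : Subgroup G}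

/-- If every conjugate of `H` lies in the product of `H` and a normal subgroup of order prime to
`p`, then the normalizer and the core generate the group. -/
theorem eq_top_of_conj_mem (hS : Setup p H) {Q : Subgroup G} (hQn : Q.Normal)
    (hQ : (Nat.card Q).Coprime p)
    (hconj : ∀ g : G, ∀ h ∈ H, ∃ h' ∈ H, h'⁻¹ * (g * h * g⁻¹) ∈ Q) :
    normalizer (H : Set G) ⊔ Cfsg.pPrimeCore p G = ⊤ := by
  haveI := hQn
  rw [eq_top_iff]
  intro g _
  have hle : H.map (MulAut.conj g).toMonoidHom ≤ H ⊔ Q := by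
    rintro _ ⟨h, hh, rfl⟩
    obtain ⟨h', hh', hq⟩ := hconj g h hh
    have := mul_mem (mem_sup_left hh' : h' ∈ H ⊔ Q) (mem_sup_right hq)
    rwa [mul_inv_cancel_left] at this
  obtain ⟨r, hr, hrc⟩ := conj_complement hS.pg (le_normalizer_of_normal (H := Q) (K := H)) hQ hle
    (card_map_conj H g)
  have hn : r * g ∈ normalizer (H : Set G) := mem_normalizer_of_conj_le fun x hx => by
    have := hrc _ ⟨x, hx, rfl⟩
    simpa [mul_assoc] using this
  rw [show g = r⁻¹ * (r * g) by group]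
  exact mul_mem (mem_sup_right (CfsgLib.Solvable.le_pPrimeCore p hQn hQ (inv_mem hr)))
    (mem_sup_left hn)

theorem exists_mem_of_factor {n q : G} {Q : Subgroup G} (hn : n ∈ normalizer (H : Set G))
    (hnQ : n ∈ normalizer (Q : Set G)) (hHQ : H ≤ normalizer (Q : Set G)) (hq : q ∈ Q) :
    ∀ h ∈ H, ∃ h' ∈ H, h'⁻¹ * (n * q * h * (n * q)⁻¹) ∈ Q := fun h hh => by
  refine ⟨n * h * n⁻¹, (mem_normalizer_iff.1 hn h).1 hh, ?_⟩
  rw [show (n * h * n⁻¹)⁻¹ * (n * q * h * (n * q)⁻¹) = n * (h⁻¹ * q * h * q⁻¹) * n⁻¹ by group]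
  refine (mem_normalizer_iff.1 hnQ _).1 (mul_mem ?_ (inv_mem hq))
  have := (mem_normalizer_iff.1 (hHQ (inv_mem hh)) q).1 hq
  simpa using this

/-- The statement, for the proper subgroups containing `H`. -/
def SubgroupsFactor (p : ℕ) (H : Subgroup G) : Prop :=
  ∀ K : Subgroup G, H ≤ K → K ≠ ⊤ →
    normalizer ((H.subgroupOf K : Subgroup K) : Set K) ⊔ Cfsg.pPrimeCore p K = ⊤

theorem exists_factor (hF : SubgroupsFactor p H) {K : Subgroup G} (hHK : H ≤ K) (hK : K ≠ ⊤)
    {v : G} (hv : v ∈ K) :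
    ∃ n ∈ K, n ∈ normalizer (H : Set G) ∧
      ∃ q ∈ (Cfsg.pPrimeCore p K).map K.subtype, n * q = v := by
  haveI := CfsgLib.Solvable.pPrimeCore_normal (G := K) p
  obtain ⟨n, hn, q, hq, hnq⟩ := Subgroup.mem_sup_of_normal_right.1
    (show (⟨v, hv⟩ : K) ∈ normalizer ((H.subgroupOf K : Subgroup K) : Set K) ⊔
      Cfsg.pPrimeCore p K by rw [hF K hHK hK]; exact mem_top _)
  refine ⟨n, n.2, mem_normalizer_of_conj_le fun x hx => ?_, q, ⟨q, hq, rfl⟩,
    congrArg Subtype.val hnq⟩
  exact (mem_normalizer_iff.1 hn ⟨x, hHK hx⟩).1 hx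

theorem le_normalizer_map_core (K : Subgroup G) :
    K ≤ normalizer ((Cfsg.pPrimeCore p K).map K.subtype : Set G) := fun t ht =>
  mem_normalizer_of_conj_le fun x hx => by
    obtain ⟨x', hx', rfl⟩ := hx
    exact ⟨⟨t, ht⟩ * x' * ⟨t, ht⟩⁻¹,
      (CfsgLib.Solvable.pPrimeCore_normal (G := K) p).conj_mem x' hx' _, rfl⟩

/-- The characters of the principal block are constant on the sections. -/
theorem const_of_factor [Fintype G] (hS : Setup p H) (hF : SubgroupsFactor p H)
    (hZ : center G ⊓ H = ⊥) {M : Ideal Cfsg.AlgInt} [M.IsPrime] (hM : Cfsg.IsPModular p M)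
    {χ : Cfsg.IrrCharacter G} (hχ : χ ∈ Cfsg.principalBlock M G) : Const p H χ := by
  intro w hw hw1 g o ho
  obtain ⟨r, hr, v, hv, hcomm, hconj⟩ := hS.exists_conj_fix hw ho
  rw [← Chr.isClassFunction_irr χ (w * o) r, hconj]
  set C := centralizer ({w} : Set G) with hC
  have hHC : H ≤ C := fun x hx => mem_centralizer_singleton_iff.2 (hS.comm x hx w hw)
  have hCtop : C ≠ ⊤ := fun h => hw1 (by
    rw [← Subgroup.mem_bot, ← hZ]
    exact ⟨mem_center_iff.2 fun x => mem_centralizer_singleton_iff.1 (h ▸ mem_top x : x ∈ C), hw⟩)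
  obtain ⟨k, hk⟩ := IsPGroup.iff_orderOf.1 hS.pg ⟨w, hw⟩
  rw [Subgroup.orderOf_mk] at hk
  obtain ⟨n, hnC, hn, q, hq, hnq⟩ := exists_factor hF hHC hCtop
    (mem_centralizer_singleton_iff.2 hcomm.symm : v ∈ C)
  refine principal_apply_mul_core hM hk (hS.mem_of_fixes_mod
    (hHC.trans (le_normalizer_map_core C)) ?_ hv (hnq ▸ exists_mem_of_factor hn
      (le_normalizer_map_core C hnC) (hHC.trans (le_normalizer_map_core C)) hq)) hχ
  rw [Cfsg.centralizerPPrimeCore, card_map_of_injective C.subtype_injective]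
  exact CfsgLib.Solvable.coprime_card_pPrimeCore p

theorem eq_top_of_closure_ne_top (hS : Setup p H) (hF : SubgroupsFactor p H)
    (h : normalClosure (H : Set G) ≠ ⊤) :
    normalizer (H : Set G) ⊔ Cfsg.pPrimeCore p G = ⊤ := by
  set M := normalClosure (H : Set G)
  have hHM : H ≤ M := Subgroup.le_normalClosure
  set Q := (Cfsg.pPrimeCore p M).map M.subtype with hQdef
  have hQc : (Nat.card Q).Coprime p := by
    rw [hQdef, card_map_of_injective M.subtype_injective]
    exact CfsgLib.Solvable.coprime_card_pPrimeCore p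
  haveI : (Cfsg.pPrimeCore p M).Characteristic := characteristic_iff_map_le.2 fun φ =>
    CfsgLib.Solvable.le_pPrimeCore p ((CfsgLib.Solvable.pPrimeCore_normal p).map _ φ.surjective) (by
      rw [card_map_of_injective φ.injective]; exact CfsgLib.Solvable.coprime_card_pPrimeCore p)
  have hQn : Q.Normal := inferInstance
  refine eq_top_of_conj_mem hS hQn hQc fun g k hk => ?_
  have hcoreM : ∀ x ∈ core p H g, x ∈ M := fun x hx => by
    have hle : pair H g ≤ M := sup_le hHM fun y ⟨z, hz, hzy⟩ => hzy ▸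
      (normalClosure_normal.conj_mem z (hHM hz) g)
    exact hle (core_le g hx)
  obtain ⟨o, ho, hn, hrest⟩ := hS.exists_mon g
  refine ⟨o * g * k * (o * g)⁻¹, (mem_normalizer_iff.1 hn k).1 hk, ?_⟩
  obtain ⟨n, hnM, hn', q, hq, hnq⟩ := exists_factor hF hHM h (hcoreM _ (hrest k hk))
  refine hS.mem_of_fixes_mod ((hHM.trans (le_normalizer_map_core M))) hQc (hrest k hk) ?_
  rw [← hnq]
  exact exists_mem_of_factor hn' (le_normalizer_map_core M hnM)
    (hHM.trans (le_normalizer_map_core M)) hq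

theorem eq_top_of_center (hS : Setup p H) {Z : Subgroup G} [Z.Normal] (hZH : Z ≤ H)
    (hZc : Z ≤ center G)
    (hind : normalizer ((H.map (QuotientGroup.mk' Z) : Subgroup (G ⧸ Z)) : Set (G ⧸ Z)) ⊔
      Cfsg.pPrimeCore p (G ⧸ Z) = ⊤) :
    normalizer (H : Set G) ⊔ Cfsg.pPrimeCore p G = ⊤ := by
  haveI := CfsgLib.Solvable.pPrimeCore_normal (G := G ⧸ Z) p
  obtain ⟨X, hX⟩ : ∃ X, X = (Cfsg.pPrimeCore p (G ⧸ Z)).comap (QuotientGroup.mk' Z) := ⟨_, rfl⟩
  haveI hXn : X.Normal := hX ▸ Normal.comap inferInstance _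
  have hZX : Z ≤ X := fun z hz => by
    rw [hX, mem_comap, QuotientGroup.mk'_apply, (QuotientGroup.eq_one_iff z).2 hz]
    exact one_mem _
  obtain ⟨e, he⟩ := IsPGroup.iff_card.1 (hS.pg.to_le hZH)
  have hZcard : Nat.card (Z.subgroupOf X) = Nat.card Z :=
    Nat.card_congr (Subgroup.subgroupOfEquivOfLe hZX).toEquiv
  have hidx : (Z.subgroupOf X).index.Coprime p := by
    have h1 : Nat.card X = Nat.card Z * Nat.card (Cfsg.pPrimeCore p (G ⧸ Z)) := by
      have h2 : X.index = (Cfsg.pPrimeCore p (G ⧸ Z)).index := by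
        rw [hX, index_comap_of_surjective _ (QuotientGroup.mk'_surjective Z)]
      have h4 := X.index_mul_card
      have h5 := Z.index_mul_card
      have h6 := (Cfsg.pPrimeCore p (G ⧸ Z)).index_mul_card
      rw [h2] at h4
      rw [show Z.index = Nat.card (G ⧸ Z) from Subgroup.index_eq_card Z, ← h6, ← h4, mul_assoc,
        mul_comm _ (Nat.card Z)] at h5
      exact (Nat.eq_of_mul_eq_mul_left (Nat.pos_of_ne_zero index_ne_zero_of_finite) h5).symm
    have h3 := (Z.subgroupOf X).index_mul_card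
    rw [hZcard, h1, mul_comm] at h3
    rw [Nat.eq_of_mul_eq_mul_left Nat.card_pos h3]
    exact CfsgLib.Solvable.coprime_card_pPrimeCore p
  obtain ⟨R, hR⟩ := Subgroup.exists_right_complement'_of_coprime
    (show (Nat.card (Z.subgroupOf X)).Coprime (Z.subgroupOf X).index by
      rw [hZcard, he]; exact (hidx.pow_right e).symm)
  have hRc : (Nat.card R).Coprime p := by rw [← hR.symm.index_eq_card]; exact hidx
  set Q := R.map X.subtype with hQdef
  have hdec : ∀ x ∈ X, ∃ z ∈ Z, ∃ q ∈ Q, z * q = x := fun x hx => by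
    obtain ⟨⟨z, q⟩, hzq⟩ := hR.existsUnique (⟨x, hx⟩ : X) |>.exists
    exact ⟨(z.1 : G), z.2, (q.1 : G), ⟨q.1, q.2, rfl⟩, congrArg Subtype.val hzq⟩
  have hQc : (Nat.card Q).Coprime p := by rwa [hQdef, card_map_of_injective X.subtype_injective]
  have hQn : Q.Normal := ⟨fun x hx g => by
    obtain ⟨z, hz, q, hq, hzq⟩ := hdec (g * x * g⁻¹) (hXn.conj_mem x (map_subtype_le _ hx) g)
    have hpow : ∀ y ∈ Q, y ^ Nat.card Q = 1 := fun y hy =>
      congrArg Subtype.val (pow_card_eq_one' (x := (⟨y, hy⟩ : Q)))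
    have hc : Commute z q := (mem_center_iff.1 (hZc hz) q).symm
    have h1 : (g * x * g⁻¹) ^ Nat.card Q = 1 := by rw [conj_pow, hpow x hx]; group
    rw [← hzq, hc.mul_pow, hpow q hq, mul_one] at h1
    have hz1 : z = 1 := orderOf_eq_one_iff.1 (Nat.eq_one_of_dvd_coprimes
      ((hQc.pow_right e)) (orderOf_dvd_of_pow_eq_one h1)
      (he ▸ Subgroup.orderOf_dvd_natCard Z hz))
    rw [← hzq, hz1, one_mul]
    exact hq⟩
  rw [eq_top_iff]
  intro g _
  obtain ⟨n', hn', q', hq', hnq⟩ := Subgroup.mem_sup_of_normal_right.1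
    (show QuotientGroup.mk' Z g ∈ normalizer ((H.map (QuotientGroup.mk' Z) : Subgroup (G ⧸ Z)) :
      Set (G ⧸ Z)) ⊔ Cfsg.pPrimeCore p (G ⧸ Z) by rw [hind]; exact mem_top _)
  obtain ⟨n, rfl⟩ := QuotientGroup.mk'_surjective Z n'
  have hnN : n ∈ normalizer (H : Set G) := mem_normalizer_of_conj_le fun k hk => by
    obtain ⟨y, hy, hye⟩ := (mem_normalizer_iff.1 hn' _).1 (mem_map_of_mem _ hk)
    rw [← map_inv, ← map_mul, ← map_mul] at hye
    obtain ⟨c, hc, hce⟩ := (QuotientGroup.mk'_eq_mk' Z).1 hye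
    rw [← hce]
    exact mul_mem hy (hZH hc)
  have hmem : n⁻¹ * g ∈ X := by
    rw [hX, mem_comap, map_mul, map_inv, ← hnq, inv_mul_cancel_left]
    exact hq'
  obtain ⟨z, hz, q, hq, hzq⟩ := hdec _ hmem
  rw [show g = n * z * q by rw [mul_assoc, hzq, mul_inv_cancel_left]]
  exact mul_mem (mem_sup_left (mul_mem hnN (Subgroup.le_normalizer (hZH hz))))
    (mem_sup_right (CfsgLib.Solvable.le_pPrimeCore p hQn hQc hq))

theorem eq_top_of_card_two (hS : Setup p H) (h2 : Nat.card H = 2) :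
    normalizer (H : Set G) ⊔ Cfsg.pPrimeCore p G = ⊤ := by
  obtain ⟨⟨a, ha⟩, ha1'⟩ := (Subgroup.ne_bot_iff_exists_ne_one (H := H)).1 (fun h => by
    rw [h, Subgroup.card_bot] at h2; omega)
  have ha1 : a ≠ 1 := fun h => ha1' (Subtype.ext h)
  obtain rfl : p = 2 := by
    haveI : Fintype G := Fintype.ofFinite G
    haveI := Chr.irrFintype (G := G)
    have h := (dvd_orderOf hS ha ha1).trans (Subgroup.orderOf_dvd_natCard H ha)
    rw [h2] at h
    exact (Nat.prime_dvd_prime_iff_eq hp.out Nat.prime_two).1 h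
  have hall : ∀ x ∈ H, x = 1 ∨ x = a := fun x hx => by
    by_contra hcon
    push Not at hcon
    classical
    haveI : Fintype H := Fintype.ofFinite _
    have h3 : ({1, ⟨a, ha⟩, ⟨x, hx⟩} : Finset H).card ≤ 2 := by
      rw [← h2, Nat.card_eq_fintype_card]; exact Finset.card_le_univ _
    rw [Finset.card_insert_of_notMem (by simp [Subtype.ext_iff, Ne.symm ha1, Ne.symm hcon.1]),
      Finset.card_pair (fun h => hcon.2 (congrArg Subtype.val h).symm)] at h3
    omega
  have hord : orderOf a = 2 := by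
    refine ((Nat.dvd_prime Nat.prime_two).1 ((Subgroup.orderOf_dvd_natCard H ha).trans
      (dvd_of_eq h2))).resolve_left ?_
    rw [orderOf_eq_one_iff]; exact ha1
  have hiso : Cfsg.IsIsolatedInvolution a := by
    refine ⟨hord, fun g hg => ?_⟩
    have hn : g * a * g⁻¹ ∈ normalizer (H : Set G) := mem_normalizer_of_conj_le fun x hx => by
      rcases hall x hx with rfl | rfl
      · simp
      · rw [← hg.eq, mul_inv_cancel_right]; exact ha
    refine (hall _ (hS.mem_of_normalizes (conj_mem_pair ha g) hn)).resolve_left fun h => ?_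
    rw [conj_eq_one_iff] at h
    exact ha1 h
  obtain ⟨N, hNn, hNodd, hN⟩ := CfsgLib.ZStar.zstar hiso
  refine eq_top_of_conj_mem hS hNn hNodd.coprime_two_right fun g x hx => ⟨x, hx, ?_⟩
  rcases hall x hx with rfl | hxa
  · simp
  · rw [hxa]
    have h1 := inv_mem (hN g)
    rw [show (a * g * a⁻¹ * g⁻¹)⁻¹ = g * a * g⁻¹ * a⁻¹ by group] at h1
    have h2 := hNn.conj_mem _ h1 a⁻¹
    rw [show a⁻¹ * (g * a * g⁻¹ * a⁻¹) * a⁻¹⁻¹ = a⁻¹ * (g * a * g⁻¹) by group] at h2
    exact h2

/-- An extremely closed abelian `p`-subgroup: the normalizer and the core generate the group. -/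
theorem eq_top_main : ∀ (n : ℕ) {G : Type u} [Group G] [Finite G], Nat.card G = n →
    ∀ {H : Subgroup G}, Setup p H → normalizer (H : Set G) ⊔ Cfsg.pPrimeCore p G = ⊤ := by
  intro n
  induction n using Nat.strong_induction_on with
  | _ n ih =>
  intro G _ _ hn H hS
  have hF : SubgroupsFactor p H := fun K hHK hK =>
    ih _ (hn ▸ CfsgLib.Solvable.card_lt_of_ne_top hK) rfl (hS.subgroupOf hHK)
  by_cases hbot : H = ⊥
  · subst hbot
    rw [eq_top_iff]
    exact fun g _ => mem_sup_left (mem_normalizer_of_conj_le fun x hx => by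
      rw [mem_bot] at hx ⊢; simp [hx])
  by_cases hgen : normalClosure (H : Set G) = ⊤
  swap
  · exact eq_top_of_closure_ne_top hS hF hgen
  by_cases hZ : center G ⊓ H = ⊥
  swap
  · haveI : (center G ⊓ H).Normal := ⟨fun x hx g => by
      rw [mem_center_iff.1 hx.1 g, mul_inv_cancel_right]; exact hx⟩
    exact eq_top_of_center hS inf_le_right inf_le_left
      (ih _ (hn ▸ CfsgLib.Solvable.card_quotient_lt hZ) rfl (hS.map_mk inf_le_right))
  rcases Nat.lt_or_ge (Nat.card H) 3 with h3 | h3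
  · refine eq_top_of_card_two hS ?_
    have := (Subgroup.one_lt_card_iff_ne_bot H).2 hbot
    omega
  haveI : Fintype G := Fintype.ofFinite G
  haveI : Fintype (Cfsg.IrrCharacter G) := Chr.irrFintype
  haveI : Fintype H := Fintype.ofFinite _
  obtain ⟨M, hM⟩ := exists_isPModular hp.out
  haveI := hM.2.1.isPrime
  exact eq_top_of_three_le hM hS (fun χ hχ => const_of_factor hS hF hZ hM hχ) hgen h3

theorem sup_pPrimeCore_eq_top (hS : Setup p H) :
    normalizer (H : Set G) ⊔ Cfsg.pPrimeCore p G = ⊤ :=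
  eq_top_main (Nat.card G) rfl hS

end CfsgLib.ExtClosed
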